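import Cfsg.Agent.Lib.Lie.Chev.Tw.D4Gp

/-!
# Normal forms in the positive unipotent group of type D4 over any field
-/

set_option autoImplicit false
set_option maxRecDepth 100000
set_option linter.style.longLine false

namespace CfsgLib.Lie.Mult.TD4Coord

open Cfsg.Lie CfsgLib.Lie.Chev

variable {K : Type*} [Field K]

/-- a root element -/
noncomputable abbrev X (r : ℕ) (t : K) : GL chevD4.Idx K :=
  if h : r < chevD4.nroots then TD4.C.G.xu ⟨r, h⟩ t else 1

theorem X_eq (r : ℕ) (h : r < chevD4.nroots) (t : K) : X r t = TD4.C.G.xu ⟨r, h⟩ t := dif_pos h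

theorem X_zero (r : ℕ) : X r (0 : K) = 1 := by
  unfold X
  split
  · exact TD4.C.G.xu_zero _
  · rfl

theorem merge {r : ℕ} (t u : K) (g : GL chevD4.Idx K) : X r t * (X r u * g) = X r (t + u) * g := by
  unfold X
  split
  · rw [← mul_assoc, ← TD4.C.G.xu_add]
  · simp

theorem merge_last {r : ℕ} (t u : K) : X r t * X r u = X r (t + u) := by
  simpa using merge t u (1 : GL chevD4.Idx K)

theorem swap_zero {r s : ℕ} (hr : r < chevD4.nroots) (hs : s < chevD4.nroots) (hsr : s ≠ r)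
    (hsn : s ≠ chevD4.neg r) (e : chevD4.commTerms r s = []) (t u : K) (g : GL chevD4.Idx K) :
    X s u * (X r t * g) = X r t * (X s u * g) := by
  rw [X_eq r hr, X_eq s hs, ← mul_assoc, ← mul_assoc, (TD4.C.xu_commute (r := ⟨r, hr⟩) (s := ⟨s, hs⟩)
    (fun h => hsr (congrArg Fin.val h)) (fun h => hsn ((congrArg Fin.val h).trans (TD4.C.G.negr_val _))) e t u).eq]

theorem swap_one {r s z : ℕ} {c : ℤ} (hr : r < chevD4.nroots) (hs : s < chevD4.nroots) (hz : z < chevD4.nroots)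
    (hsr : s ≠ r) (hsn : s ≠ chevD4.neg r) (e : chevD4.commTerms r s = [(z, c, 1, 1)]) (t u : K)
    (g : GL chevD4.Idx K) :
    X s u * (X r t * g) = X r t * (X s u * (X z (-((c : K) * t * u)) * g)) := by
  have h := TD4.C.commAt ⟨r, hr⟩ ⟨s, hs⟩ (fun h => hsr (congrArg Fin.val h))
    (fun h => hsn ((congrArg Fin.val h).trans (TD4.C.G.negr_val _))) t u
  rw [X_eq r hr, X_eq s hs, X_eq z hz]
  simp only [← mul_assoc]
  congr 1
  refine Units.ext ?_
  simp only [Units.val_mul]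
  unfold CommAt at h
  simp only [cwR, e, List.map_cons, List.map_nil, wordR_cons, wordR_nil, mul_one, pow_one] at h
  refine h.trans ?_
  simp only [xN, dif_pos hz]
  congr 2
  ring

theorem pos_root : ∀ r < 24, 12 ≤ r → chevD4.IsPosRoot r := by decide +kernel

theorem sw_12_13 (t u : K) (g : GL chevD4.Idx K) :
    X 13 u * (X 12 t * g) = X 12 t * (X 13 u * g) := by
  refine swap_zero ?_ ?_ ?_ ?_ ?_ t u g <;> decide +kernel

theorem sw_12_14 (t u : K) (g : GL chevD4.Idx K) :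
    X 14 u * (X 12 t * g) = X 12 t * (X 14 u * (X 15 (-(t * u)) * g)) := by
  refine (swap_one (z := 15) (c := 1) ?_ ?_ ?_ ?_ ?_ ?_ t u g).trans (by simp)
  all_goals decide +kernel

theorem sw_12_15 (t u : K) (g : GL chevD4.Idx K) :
    X 15 u * (X 12 t * g) = X 12 t * (X 15 u * g) := by
  refine swap_zero ?_ ?_ ?_ ?_ ?_ t u g <;> decide +kernel

theorem sw_12_16 (t u : K) (g : GL chevD4.Idx K) :
    X 16 u * (X 12 t * g) = X 12 t * (X 16 u * (X 17 (-(t * u)) * g)) := by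
  refine (swap_one (z := 17) (c := 1) ?_ ?_ ?_ ?_ ?_ ?_ t u g).trans (by simp)
  all_goals decide +kernel

theorem sw_12_17 (t u : K) (g : GL chevD4.Idx K) :
    X 17 u * (X 12 t * g) = X 12 t * (X 17 u * g) := by
  refine swap_zero ?_ ?_ ?_ ?_ ?_ t u g <;> decide +kernel

theorem sw_12_18 (t u : K) (g : GL chevD4.Idx K) :
    X 18 u * (X 12 t * g) = X 12 t * (X 18 u * g) := by
  refine swap_zero ?_ ?_ ?_ ?_ ?_ t u g <;> decide +kernel

theorem sw_12_19 (t u : K) (g : GL chevD4.Idx K) :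
    X 19 u * (X 12 t * g) = X 12 t * (X 19 u * (X 20 (-(t * u)) * g)) := by
  refine (swap_one (z := 20) (c := 1) ?_ ?_ ?_ ?_ ?_ ?_ t u g).trans (by simp)
  all_goals decide +kernel

theorem sw_12_20 (t u : K) (g : GL chevD4.Idx K) :
    X 20 u * (X 12 t * g) = X 12 t * (X 20 u * g) := by
  refine swap_zero ?_ ?_ ?_ ?_ ?_ t u g <;> decide +kernel

theorem sw_12_21 (t u : K) (g : GL chevD4.Idx K) :
    X 21 u * (X 12 t * g) = X 12 t * (X 21 u * (X 22 (-(t * u)) * g)) := by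
  refine (swap_one (z := 22) (c := 1) ?_ ?_ ?_ ?_ ?_ ?_ t u g).trans (by simp)
  all_goals decide +kernel

theorem sw_12_22 (t u : K) (g : GL chevD4.Idx K) :
    X 22 u * (X 12 t * g) = X 12 t * (X 22 u * g) := by
  refine swap_zero ?_ ?_ ?_ ?_ ?_ t u g <;> decide +kernel

theorem sw_12_23 (t u : K) (g : GL chevD4.Idx K) :
    X 23 u * (X 12 t * g) = X 12 t * (X 23 u * g) := by
  refine swap_zero ?_ ?_ ?_ ?_ ?_ t u g <;> decide +kernel

theorem sw_13_14 (t u : K) (g : GL chevD4.Idx K) :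
    X 14 u * (X 13 t * g) = X 13 t * (X 14 u * (X 16 (-(t * u)) * g)) := by
  refine (swap_one (z := 16) (c := 1) ?_ ?_ ?_ ?_ ?_ ?_ t u g).trans (by simp)
  all_goals decide +kernel

theorem sw_13_15 (t u : K) (g : GL chevD4.Idx K) :
    X 15 u * (X 13 t * g) = X 13 t * (X 15 u * (X 17 (-(t * u)) * g)) := by
  refine (swap_one (z := 17) (c := 1) ?_ ?_ ?_ ?_ ?_ ?_ t u g).trans (by simp)
  all_goals decide +kernel

theorem sw_13_16 (t u : K) (g : GL chevD4.Idx K) :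
    X 16 u * (X 13 t * g) = X 13 t * (X 16 u * g) := by
  refine swap_zero ?_ ?_ ?_ ?_ ?_ t u g <;> decide +kernel

theorem sw_13_17 (t u : K) (g : GL chevD4.Idx K) :
    X 17 u * (X 13 t * g) = X 13 t * (X 17 u * g) := by
  refine swap_zero ?_ ?_ ?_ ?_ ?_ t u g <;> decide +kernel

theorem sw_13_18 (t u : K) (g : GL chevD4.Idx K) :
    X 18 u * (X 13 t * g) = X 13 t * (X 18 u * g) := by
  refine swap_zero ?_ ?_ ?_ ?_ ?_ t u g <;> decide +kernel

theorem sw_13_19 (t u : K) (g : GL chevD4.Idx K) :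
    X 19 u * (X 13 t * g) = X 13 t * (X 19 u * (X 21 (-(t * u)) * g)) := by
  refine (swap_one (z := 21) (c := 1) ?_ ?_ ?_ ?_ ?_ ?_ t u g).trans (by simp)
  all_goals decide +kernel

theorem sw_13_20 (t u : K) (g : GL chevD4.Idx K) :
    X 20 u * (X 13 t * g) = X 13 t * (X 20 u * (X 22 (-(t * u)) * g)) := by
  refine (swap_one (z := 22) (c := 1) ?_ ?_ ?_ ?_ ?_ ?_ t u g).trans (by simp)
  all_goals decide +kernel

theorem sw_13_21 (t u : K) (g : GL chevD4.Idx K) :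
    X 21 u * (X 13 t * g) = X 13 t * (X 21 u * g) := by
  refine swap_zero ?_ ?_ ?_ ?_ ?_ t u g <;> decide +kernel

theorem sw_13_22 (t u : K) (g : GL chevD4.Idx K) :
    X 22 u * (X 13 t * g) = X 13 t * (X 22 u * g) := by
  refine swap_zero ?_ ?_ ?_ ?_ ?_ t u g <;> decide +kernel

theorem sw_13_23 (t u : K) (g : GL chevD4.Idx K) :
    X 23 u * (X 13 t * g) = X 13 t * (X 23 u * g) := by
  refine swap_zero ?_ ?_ ?_ ?_ ?_ t u g <;> decide +kernel

theorem sw_14_15 (t u : K) (g : GL chevD4.Idx K) :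
    X 15 u * (X 14 t * g) = X 14 t * (X 15 u * g) := by
  refine swap_zero ?_ ?_ ?_ ?_ ?_ t u g <;> decide +kernel

theorem sw_14_16 (t u : K) (g : GL chevD4.Idx K) :
    X 16 u * (X 14 t * g) = X 14 t * (X 16 u * g) := by
  refine swap_zero ?_ ?_ ?_ ?_ ?_ t u g <;> decide +kernel

theorem sw_14_17 (t u : K) (g : GL chevD4.Idx K) :
    X 17 u * (X 14 t * g) = X 14 t * (X 17 u * g) := by
  refine swap_zero ?_ ?_ ?_ ?_ ?_ t u g <;> decide +kernel

theorem sw_14_18 (t u : K) (g : GL chevD4.Idx K) :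
    X 18 u * (X 14 t * g) = X 14 t * (X 18 u * (X 19 (-(t * u)) * g)) := by
  refine (swap_one (z := 19) (c := 1) ?_ ?_ ?_ ?_ ?_ ?_ t u g).trans (by simp)
  all_goals decide +kernel

theorem sw_14_19 (t u : K) (g : GL chevD4.Idx K) :
    X 19 u * (X 14 t * g) = X 14 t * (X 19 u * g) := by
  refine swap_zero ?_ ?_ ?_ ?_ ?_ t u g <;> decide +kernel

theorem sw_14_20 (t u : K) (g : GL chevD4.Idx K) :
    X 20 u * (X 14 t * g) = X 14 t * (X 20 u * g) := by
  refine swap_zero ?_ ?_ ?_ ?_ ?_ t u g <;> decide +kernel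

theorem sw_14_21 (t u : K) (g : GL chevD4.Idx K) :
    X 21 u * (X 14 t * g) = X 14 t * (X 21 u * g) := by
  refine swap_zero ?_ ?_ ?_ ?_ ?_ t u g <;> decide +kernel

theorem sw_14_22 (t u : K) (g : GL chevD4.Idx K) :
    X 22 u * (X 14 t * g) = X 14 t * (X 22 u * (X 23 (-(t * u)) * g)) := by
  refine (swap_one (z := 23) (c := 1) ?_ ?_ ?_ ?_ ?_ ?_ t u g).trans (by simp)
  all_goals decide +kernel

theorem sw_14_23 (t u : K) (g : GL chevD4.Idx K) :
    X 23 u * (X 14 t * g) = X 14 t * (X 23 u * g) := by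
  refine swap_zero ?_ ?_ ?_ ?_ ?_ t u g <;> decide +kernel

theorem sw_15_16 (t u : K) (g : GL chevD4.Idx K) :
    X 16 u * (X 15 t * g) = X 15 t * (X 16 u * g) := by
  refine swap_zero ?_ ?_ ?_ ?_ ?_ t u g <;> decide +kernel

theorem sw_15_17 (t u : K) (g : GL chevD4.Idx K) :
    X 17 u * (X 15 t * g) = X 15 t * (X 17 u * g) := by
  refine swap_zero ?_ ?_ ?_ ?_ ?_ t u g <;> decide +kernel

theorem sw_15_18 (t u : K) (g : GL chevD4.Idx K) :
    X 18 u * (X 15 t * g) = X 15 t * (X 18 u * (X 20 (-(t * u)) * g)) := by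
  refine (swap_one (z := 20) (c := 1) ?_ ?_ ?_ ?_ ?_ ?_ t u g).trans (by simp)
  all_goals decide +kernel

theorem sw_15_19 (t u : K) (g : GL chevD4.Idx K) :
    X 19 u * (X 15 t * g) = X 15 t * (X 19 u * g) := by
  refine swap_zero ?_ ?_ ?_ ?_ ?_ t u g <;> decide +kernel

theorem sw_15_20 (t u : K) (g : GL chevD4.Idx K) :
    X 20 u * (X 15 t * g) = X 15 t * (X 20 u * g) := by
  refine swap_zero ?_ ?_ ?_ ?_ ?_ t u g <;> decide +kernel

theorem sw_15_21 (t u : K) (g : GL chevD4.Idx K) :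
    X 21 u * (X 15 t * g) = X 15 t * (X 21 u * (X 23 (t * u) * g)) := by
  refine (swap_one (z := 23) (c := -1) ?_ ?_ ?_ ?_ ?_ ?_ t u g).trans (by simp)
  all_goals decide +kernel

theorem sw_15_22 (t u : K) (g : GL chevD4.Idx K) :
    X 22 u * (X 15 t * g) = X 15 t * (X 22 u * g) := by
  refine swap_zero ?_ ?_ ?_ ?_ ?_ t u g <;> decide +kernel

theorem sw_15_23 (t u : K) (g : GL chevD4.Idx K) :
    X 23 u * (X 15 t * g) = X 15 t * (X 23 u * g) := by
  refine swap_zero ?_ ?_ ?_ ?_ ?_ t u g <;> decide +kernel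

theorem sw_16_17 (t u : K) (g : GL chevD4.Idx K) :
    X 17 u * (X 16 t * g) = X 16 t * (X 17 u * g) := by
  refine swap_zero ?_ ?_ ?_ ?_ ?_ t u g <;> decide +kernel

theorem sw_16_18 (t u : K) (g : GL chevD4.Idx K) :
    X 18 u * (X 16 t * g) = X 16 t * (X 18 u * (X 21 (-(t * u)) * g)) := by
  refine (swap_one (z := 21) (c := 1) ?_ ?_ ?_ ?_ ?_ ?_ t u g).trans (by simp)
  all_goals decide +kernel

theorem sw_16_19 (t u : K) (g : GL chevD4.Idx K) :
    X 19 u * (X 16 t * g) = X 16 t * (X 19 u * g) := by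
  refine swap_zero ?_ ?_ ?_ ?_ ?_ t u g <;> decide +kernel

theorem sw_16_20 (t u : K) (g : GL chevD4.Idx K) :
    X 20 u * (X 16 t * g) = X 16 t * (X 20 u * (X 23 (t * u) * g)) := by
  refine (swap_one (z := 23) (c := -1) ?_ ?_ ?_ ?_ ?_ ?_ t u g).trans (by simp)
  all_goals decide +kernel

theorem sw_16_21 (t u : K) (g : GL chevD4.Idx K) :
    X 21 u * (X 16 t * g) = X 16 t * (X 21 u * g) := by
  refine swap_zero ?_ ?_ ?_ ?_ ?_ t u g <;> decide +kernel

theorem sw_16_22 (t u : K) (g : GL chevD4.Idx K) :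
    X 22 u * (X 16 t * g) = X 16 t * (X 22 u * g) := by
  refine swap_zero ?_ ?_ ?_ ?_ ?_ t u g <;> decide +kernel

theorem sw_16_23 (t u : K) (g : GL chevD4.Idx K) :
    X 23 u * (X 16 t * g) = X 16 t * (X 23 u * g) := by
  refine swap_zero ?_ ?_ ?_ ?_ ?_ t u g <;> decide +kernel

theorem sw_17_18 (t u : K) (g : GL chevD4.Idx K) :
    X 18 u * (X 17 t * g) = X 17 t * (X 18 u * (X 22 (-(t * u)) * g)) := by
  refine (swap_one (z := 22) (c := 1) ?_ ?_ ?_ ?_ ?_ ?_ t u g).trans (by simp)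
  all_goals decide +kernel

theorem sw_17_19 (t u : K) (g : GL chevD4.Idx K) :
    X 19 u * (X 17 t * g) = X 17 t * (X 19 u * (X 23 (-(t * u)) * g)) := by
  refine (swap_one (z := 23) (c := 1) ?_ ?_ ?_ ?_ ?_ ?_ t u g).trans (by simp)
  all_goals decide +kernel

theorem sw_17_20 (t u : K) (g : GL chevD4.Idx K) :
    X 20 u * (X 17 t * g) = X 17 t * (X 20 u * g) := by
  refine swap_zero ?_ ?_ ?_ ?_ ?_ t u g <;> decide +kernel

theorem sw_17_21 (t u : K) (g : GL chevD4.Idx K) :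
    X 21 u * (X 17 t * g) = X 17 t * (X 21 u * g) := by
  refine swap_zero ?_ ?_ ?_ ?_ ?_ t u g <;> decide +kernel

theorem sw_17_22 (t u : K) (g : GL chevD4.Idx K) :
    X 22 u * (X 17 t * g) = X 17 t * (X 22 u * g) := by
  refine swap_zero ?_ ?_ ?_ ?_ ?_ t u g <;> decide +kernel

theorem sw_17_23 (t u : K) (g : GL chevD4.Idx K) :
    X 23 u * (X 17 t * g) = X 17 t * (X 23 u * g) := by
  refine swap_zero ?_ ?_ ?_ ?_ ?_ t u g <;> decide +kernel

theorem sw_18_19 (t u : K) (g : GL chevD4.Idx K) :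
    X 19 u * (X 18 t * g) = X 18 t * (X 19 u * g) := by
  refine swap_zero ?_ ?_ ?_ ?_ ?_ t u g <;> decide +kernel

theorem sw_18_20 (t u : K) (g : GL chevD4.Idx K) :
    X 20 u * (X 18 t * g) = X 18 t * (X 20 u * g) := by
  refine swap_zero ?_ ?_ ?_ ?_ ?_ t u g <;> decide +kernel

theorem sw_18_21 (t u : K) (g : GL chevD4.Idx K) :
    X 21 u * (X 18 t * g) = X 18 t * (X 21 u * g) := by
  refine swap_zero ?_ ?_ ?_ ?_ ?_ t u g <;> decide +kernel

theorem sw_18_22 (t u : K) (g : GL chevD4.Idx K) :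
    X 22 u * (X 18 t * g) = X 18 t * (X 22 u * g) := by
  refine swap_zero ?_ ?_ ?_ ?_ ?_ t u g <;> decide +kernel

theorem sw_18_23 (t u : K) (g : GL chevD4.Idx K) :
    X 23 u * (X 18 t * g) = X 18 t * (X 23 u * g) := by
  refine swap_zero ?_ ?_ ?_ ?_ ?_ t u g <;> decide +kernel

theorem sw_19_20 (t u : K) (g : GL chevD4.Idx K) :
    X 20 u * (X 19 t * g) = X 19 t * (X 20 u * g) := by
  refine swap_zero ?_ ?_ ?_ ?_ ?_ t u g <;> decide +kernel

theorem sw_19_21 (t u : K) (g : GL chevD4.Idx K) :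
    X 21 u * (X 19 t * g) = X 19 t * (X 21 u * g) := by
  refine swap_zero ?_ ?_ ?_ ?_ ?_ t u g <;> decide +kernel

theorem sw_19_22 (t u : K) (g : GL chevD4.Idx K) :
    X 22 u * (X 19 t * g) = X 19 t * (X 22 u * g) := by
  refine swap_zero ?_ ?_ ?_ ?_ ?_ t u g <;> decide +kernel

theorem sw_19_23 (t u : K) (g : GL chevD4.Idx K) :
    X 23 u * (X 19 t * g) = X 19 t * (X 23 u * g) := by
  refine swap_zero ?_ ?_ ?_ ?_ ?_ t u g <;> decide +kernel

theorem sw_20_21 (t u : K) (g : GL chevD4.Idx K) :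
    X 21 u * (X 20 t * g) = X 20 t * (X 21 u * g) := by
  refine swap_zero ?_ ?_ ?_ ?_ ?_ t u g <;> decide +kernel

theorem sw_20_22 (t u : K) (g : GL chevD4.Idx K) :
    X 22 u * (X 20 t * g) = X 20 t * (X 22 u * g) := by
  refine swap_zero ?_ ?_ ?_ ?_ ?_ t u g <;> decide +kernel

theorem sw_20_23 (t u : K) (g : GL chevD4.Idx K) :
    X 23 u * (X 20 t * g) = X 20 t * (X 23 u * g) := by
  refine swap_zero ?_ ?_ ?_ ?_ ?_ t u g <;> decide +kernel

theorem sw_21_22 (t u : K) (g : GL chevD4.Idx K) :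
    X 22 u * (X 21 t * g) = X 21 t * (X 22 u * g) := by
  refine swap_zero ?_ ?_ ?_ ?_ ?_ t u g <;> decide +kernel

theorem sw_21_23 (t u : K) (g : GL chevD4.Idx K) :
    X 23 u * (X 21 t * g) = X 21 t * (X 23 u * g) := by
  refine swap_zero ?_ ?_ ?_ ?_ ?_ t u g <;> decide +kernel

theorem sw_22_23 (t u : K) (g : GL chevD4.Idx K) :
    X 23 u * (X 22 t * g) = X 22 t * (X 23 u * g) := by
  refine swap_zero ?_ ?_ ?_ ?_ ?_ t u g <;> decide +kernel

/-- the normal form -/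
noncomputable def N (a b c d e f g h i j k l : K) : GL chevD4.Idx K :=
  X 12 a * (X 13 b * (X 14 c * (X 15 d * (X 16 e * (X 17 f * (X 18 g * (X 19 h * (X 20 i * (X 21 j * (X 22 k * (X 23 l * 1)))))))))))

theorem N_zero : N (0 : K) 0 0 0 0 0 0 0 0 0 0 0 = 1 := by simp only [N, X_zero, one_mul]

end CfsgLib.Lie.Mult.TD4Coord
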