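import Cfsg.Agent.Lib.Lie.Mult.TD4.Six

/-!
# The derived group of the preimage of the unipotent group of `³D₄`

Canonical lifts of the elements of the derived group form a normal subgroup meeting the kernel trivially.
-/

set_option autoImplicit false

namespace CfsgLib.Lie.Mult.TD4Six

open scoped commutatorElement

section Calc

variable {P : Type*} [Group P]

theorem bracket_strip {z z' a b : P} (h1 : Commute z a) (h2 : Commute z b) (h3 : Commute z' a)
    (h4 : Commute z' b) (h5 : Commute z z') : ⁅z * a, z' * b⁆ = ⁅a, b⁆ := by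
  have ha : ⁅z * a, z' * b⁆ = ⁅a, z' * b⁆ := by
    have h0 : ⁅z, z' * b⁆ = 1 := commutatorElement_eq_one_iff_commute.2 (h5.mul_right h2)
    rw [h1.eq, bracket_left (by rw [h0]; exact Commute.one_right _), h0, one_mul]
  rw [ha, h4.eq, bracket_right (by rw [commutatorElement_eq_one_iff_commute.2 h3.symm]; exact Commute.one_right _),
    commutatorElement_eq_one_iff_commute.2 h3.symm, mul_one]

/-- the conjugate of two commuting elements by a third -/
theorem pair_expand {d b d' b' : P} (hbb : Commute b b') (hdd : Commute d d') (h1 : Commute d ⁅b, d'⁆)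
    (h2 : Commute d' ⁅d, b'⁆) : ⁅d * b, d' * b'⁆ = ⁅b, d'⁆ * ⁅d, b'⁆ := by
  have e1 : ⁅d * b, d'⁆ = ⁅b, d'⁆ := by
    rw [bracket_left h1, commutatorElement_eq_one_iff_commute.2 hdd, mul_one]
  have e2 : ⁅d * b, b'⁆ = ⁅d, b'⁆ := by
    rw [bracket_left (by rw [commutatorElement_eq_one_iff_commute.2 hbb]; exact Commute.one_right _),
      commutatorElement_eq_one_iff_commute.2 hbb, one_mul]
  rw [bracket_right (by rw [e2]; exact h2), e1, e2]

theorem conj_eq_bracket (g x : P) : g * x * g⁻¹ = ⁅g, x⁆ * x := by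
  rw [commutatorElement_def]; group

theorem add_zero' {K : Type*} [AddGroup K] {f : K → P} (h : ∀ x y, f (x + y) = f x * f y) : f 0 = 1 :=
  right_eq_mul.1 (show f 0 = f 0 * f 0 by rw [← h, add_zero])

theorem add_neg' {K : Type*} [AddGroup K] {f : K → P} (h : ∀ x y, f (x + y) = f x * f y) (x : K) :
    f (-x) = (f x)⁻¹ :=
  eq_inv_of_mul_eq_one_right (by rw [← h, add_neg_cancel, add_zero' h])

theorem exists_sub3 {K : Type*} [AddCommGroup K] {f g h : K → P} (hf : ∀ x y, f (x + y) = f x * f y)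
    (hg : ∀ x y, g (x + y) = g x * g y) (hh : ∀ x y, h (x + y) = h x * h y)
    (hfg : ∀ x y, Commute (f x) (g y)) (hfh : ∀ x y, Commute (f x) (h y))
    (hgh : ∀ x y, Commute (g x) (h y)) :
    ∃ N : Subgroup P, ∀ x, x ∈ N ↔ ∃ a b c, x = f a * g b * h c := by
  refine ⟨{ carrier := {x | ∃ a b c, x = f a * g b * h c}, one_mem' := ?_, mul_mem' := ?_, inv_mem' := ?_ },
    fun x => Iff.rfl⟩
  · rintro x y ⟨a, b, c, rfl⟩ ⟨a', b', c', rfl⟩
    refine ⟨a + a', b + b', c + c', ?_⟩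
    rw [hf, hg, hh]
    calc f a * g b * h c * (f a' * g b' * h c') = f a * g b * ((h c * f a') * g b') * h c' := by group
      _ = f a * g b * ((f a' * h c) * g b') * h c' := by rw [(hfh a' c).eq]
      _ = f a * (g b * f a') * (h c * g b') * h c' := by group
      _ = f a * (f a' * g b) * (g b' * h c) * h c' := by rw [(hfg a' b).eq, (hgh b' c).eq]
      _ = _ := by group
  · exact ⟨0, 0, 0, by rw [add_zero' hf, add_zero' hg, add_zero' hh, one_mul, one_mul]⟩
  · rintro x ⟨a, b, c, rfl⟩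
    refine ⟨-a, -b, -c, ?_⟩
    rw [add_neg' hf, add_neg' hg, add_neg' hh]
    calc (f a * g b * h c)⁻¹ = (h c)⁻¹ * ((g b)⁻¹ * (f a)⁻¹) := by group
      _ = (h c)⁻¹ * ((f a)⁻¹ * (g b)⁻¹) := by rw [((hfg a b).inv_left.inv_right).eq]
      _ = ((h c)⁻¹ * (f a)⁻¹) * (g b)⁻¹ := by group
      _ = (f a)⁻¹ * ((h c)⁻¹ * (g b)⁻¹) := by rw [← ((hfh a c).inv_left.inv_right).eq]; group
      _ = (f a)⁻¹ * ((g b)⁻¹ * (h c)⁻¹) := by rw [← ((hgh b c).inv_left.inv_right).eq]
      _ = _ := by group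

theorem mem_normalizer_of_conj [Finite P] {N : Subgroup P} {g : P} (h : ∀ n ∈ N, g * n * g⁻¹ ∈ N) :
    g ∈ Subgroup.normalizer (N : Set P) := by
  have hle : N.map (MulAut.conj g).toMonoidHom ≤ N := by
    rintro _ ⟨n, hn, rfl⟩; exact h n hn
  have heq := Subgroup.eq_of_le_of_card_ge hle
    (Nat.card_congr (Subgroup.equivMapOfInjective _ _ (MulAut.conj g).injective).toEquiv).le
  refine Subgroup.mem_normalizer_iff.2 fun w => ⟨h w, fun hw => ?_⟩
  rw [← heq] at hw
  obtain ⟨v, hv, e⟩ := hw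
  have : v = w := by simpa using e
  exact this ▸ hv

end Calc

variable {G : Type*} [Group G] {K : Type*} [Field K] [Fintype K] {θ : K ≃+* K} (X : Six G K θ)
  {P : Type*} [Group P] {p : P →* G} (hp : Function.Surjective p) (hc : p.ker ≤ Subgroup.center P)
  {L : G → P} (hL : ∀ g, p (L g) = g)

/-- `[B(1), D]` as a function of the trace variable -/
def gE (L : G → P) (y : K) : P := ⁅L (X.B 1), L (X.D (θ.symm y))⁆

/-- `[C(1), D]` as a function of the trace variable -/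
def gF (L : G → P) (y : K) : P := ⁅L (X.C 1), L (X.D (θ.symm y))⁆

/-- the torus lift of a root group -/
def tl (H : P) (L : G → P) (f : K → G) (l : K) (x : K) : P := ⁅H, L (f (x / (l - 1)))⁆

/-- all six root groups -/
def gens : Set G :=
  (Set.range X.B ∪ Set.range X.C ∪ Set.range X.D) ∪
    (X.A '' {w | θ w = w} ∪ (X.E '' {w | θ w = w} ∪ X.F '' {w | θ w = w}))

include X hp hc hL

theorem gE_img (y : K) : p (gE X L y) = X.E (tr θ y) := by
  rw [gE, map_commutatorElement, hL, hL, X.rBD, one_mul, θ.apply_symm_apply]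

theorem gF_img (y : K) : p (gF X L y) = X.F (tr θ y) := by
  rw [gF, map_commutatorElement, hL, hL, X.rCD, one_mul, θ.apply_symm_apply]

/-- everything outside `A` commutes with the lifts of `E` and `F` -/
theorem gens_comm {w : K} (hw : θ w = w) {g : P}
    (hg : p g ∈ Set.range X.B ∪ Set.range X.C ∪ Set.range X.D ∪ (X.E '' {w | θ w = w} ∪ X.F '' {w | θ w = w})) :
    Commute g (L (X.E w)) ∧ Commute g (L (X.F w)) :=
  E_comm X hp hc hL hw (Subgroup.subset_closure hg)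

theorem commute_gE {g : P}
    (hg : p g ∈ Set.range X.B ∪ Set.range X.C ∪ Set.range X.D ∪ (X.E '' {w | θ w = w} ∪ X.F '' {w | θ w = w}))
    (y : K) : Commute g (gE X L y) :=
  SLUniv.commute_congr hc rfl ((gE_img X hp hc hL y).trans (hL _).symm)
    (gens_comm X hp hc hL (fix_tr X y) hg).1

theorem commute_gF {g : P}
    (hg : p g ∈ Set.range X.B ∪ Set.range X.C ∪ Set.range X.D ∪ (X.E '' {w | θ w = w} ∪ X.F '' {w | θ w = w}))
    (y : K) : Commute g (gF X L y) :=
  SLUniv.commute_congr hc rfl ((gF_img X hp hc hL y).trans (hL _).symm)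
    (gens_comm X hp hc hL (fix_tr X y) hg).2

theorem gF_A {w : K} (hw : θ w = w) {g : P} (hg : p g = X.A w) (y : K) : Commute g (gF X L y) :=
  SLUniv.commute_congr hc (hg.trans (hL _).symm) ((gF_img X hp hc hL y).trans (hL _).symm)
    (long_long X hp hc hL hw (fix_tr X y)).1

theorem gE_rel (r r' s : K) : gE X L (r * θ (dd θ r' s)) = gE X L (r' * θ (dd θ r s)) := by
  obtain ⟨e, f, he, hf, h⟩ := X.rBC r s
  obtain ⟨e', f', he', hf', h'⟩ := X.rBC r' s
  set c := L (X.C s)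
  set d := L (X.D (-dd θ r s))
  set d' := L (X.D (-dd θ r' s))
  set b := L (X.B r)
  set b' := L (X.B r')
  set z := L (X.F (-f)) * L (X.E (-e))
  set z' := L (X.F (-f')) * L (X.E (-e'))
  have hy : ∀ {r : K} {e f : K}, ⁅X.B r, X.C s⁆ = X.D (dd θ r s) * X.E e * X.F f →
      p (c * L (X.B r) * c⁻¹) = p (L (X.F (-f)) * L (X.E (-e)) * (L (X.D (-dd θ r s)) * L (X.B r))) := by
    intro r e f h
    simp only [c, map_mul, map_inv, hL]
    rw [add_neg' (f := X.F) X.addF, add_neg' (f := X.E) X.addE, add_neg' (f := X.D) X.addD, conj_eq_bracket, ← commutatorElement_inv, h]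
    group
  have hcom : Commute (z * (d * b)) (z' * (d' * b')) :=
    SLUniv.commute_congr hc (hy h).symm (hy h').symm ((Commute.conj_iff c).2 (cBB X hp hc hL r r'))
  have hz : ∀ {e f : K}, θ e = e → θ f = f → ∀ g : P,
      p g ∈ Set.range X.B ∪ Set.range X.C ∪ Set.range X.D ∪ (X.E '' {w | θ w = w} ∪ X.F '' {w | θ w = w}) →
      Commute (L (X.F (-f)) * L (X.E (-e))) g := fun he hf g hg =>
    ((gens_comm X hp hc hL (by rw [map_neg, hf]) hg).2.symm).mul_left
      (gens_comm X hp hc hL (by rw [map_neg, he]) hg).1.symm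
  have md : ∀ x, p (L (X.D x)) ∈ Set.range X.B ∪ Set.range X.C ∪ Set.range X.D ∪
      (X.E '' {w | θ w = w} ∪ X.F '' {w | θ w = w}) := fun x => Or.inl (Or.inr ⟨x, (hL _).symm⟩)
  have mb : ∀ x, p (L (X.B x)) ∈ Set.range X.B ∪ Set.range X.C ∪ Set.range X.D ∪
      (X.E '' {w | θ w = w} ∪ X.F '' {w | θ w = w}) := fun x => Or.inl (Or.inl (Or.inl ⟨x, (hL _).symm⟩))
  have hzz : Commute z z' := by
    have h1 := hz he hf (L (X.F (-f'))) (Or.inr (Or.inr ⟨_, by simp [hf'], (hL _).symm⟩))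
    have h2 := hz he hf (L (X.E (-e'))) (Or.inr (Or.inl ⟨_, by simp [he'], (hL _).symm⟩))
    exact h1.mul_right h2
  have h1 : ⁅d * b, d' * b'⁆ = 1 := by
    rw [← bracket_strip ((hz he hf d (md _)).mul_right (hz he hf b (mb _)))
      ((hz he hf d' (md _)).mul_right (hz he hf b' (mb _)))
      ((hz he' hf' d (md _)).mul_right (hz he' hf' b (mb _)))
      ((hz he' hf' d' (md _)).mul_right (hz he' hf' b' (mb _))) hzz,
      commutatorElement_eq_one_iff_commute]
    exact hcom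
  have e1 : ⁅b, d'⁆ = gE X L (r * θ (-dd θ r' s)) := brBD X hp hc hL r _
  have e2 : ⁅d, b'⁆ = (gE X L (r' * θ (-dd θ r s)))⁻¹ := by
    rw [← commutatorElement_inv]; exact congrArg (·⁻¹) (brBD X hp hc hL r' _)
  rw [pair_expand (cBB X hp hc hL r r') (cDD X hp hc hL _ _)
    (by rw [e1]; exact commute_gE X hp hc hL (md _) _)
    (by rw [e2]; exact (commute_gE X hp hc hL (md _) _).inv_right), e1, e2, mul_inv_eq_one] at h1
  simp only [map_neg, mul_neg] at h1
  rw [add_neg' (f := gE X L) (gE_add X hp hc hL), add_neg' (f := gE X L) (gE_add X hp hc hL)] at h1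
  exact inv_injective h1

theorem gF_rel (r r' s : K) : gF X L (r * θ (dd θ r' s)) = gF X L (r' * θ (dd θ r s)) := by
  obtain ⟨e, f, he, hf, h⟩ := X.rBC s r
  obtain ⟨e', f', he', hf', h'⟩ := X.rBC s r'
  have hdd : ∀ a b : K, dd θ a b = dd θ b a := fun a b => by simp only [dd]; ring
  rw [hdd r' s, hdd r s]
  set b := L (X.B s)
  set d := L (X.D (dd θ s r))
  set d' := L (X.D (dd θ s r'))
  set c := L (X.C r)
  set c' := L (X.C r')
  set z := L (X.E e) * L (X.F f)
  set z' := L (X.E e') * L (X.F f')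
  have hy : ∀ {r : K} {e f : K}, θ e = e → θ f = f → ⁅X.B s, X.C r⁆ = X.D (dd θ s r) * X.E e * X.F f →
      p (b * L (X.C r) * b⁻¹) = p (L (X.E e) * L (X.F f) * (L (X.D (dd θ s r)) * L (X.C r))) := by
    intro r e f he hf h
    simp only [b, map_mul, map_inv, hL]
    rw [conj_eq_bracket, h, mul_assoc (X.D (dd θ s r)),
      ((X.cDE (dd θ s r) e he).mul_right (X.cDF (dd θ s r) f hf)).eq]
    group
  have hcom : Commute (z * (d * c)) (z' * (d' * c')) :=
    SLUniv.commute_congr hc (hy he hf h).symm (hy he' hf' h').symm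
      ((Commute.conj_iff b).2 (cCC X hp hc hL r r'))
  have hz : ∀ {e f : K}, θ e = e → θ f = f → ∀ g : P,
      p g ∈ Set.range X.B ∪ Set.range X.C ∪ Set.range X.D ∪ (X.E '' {w | θ w = w} ∪ X.F '' {w | θ w = w}) →
      Commute (L (X.E e) * L (X.F f)) g := fun he hf g hg =>
    ((gens_comm X hp hc hL he hg).1.symm).mul_left (gens_comm X hp hc hL hf hg).2.symm
  have md : ∀ x, p (L (X.D x)) ∈ Set.range X.B ∪ Set.range X.C ∪ Set.range X.D ∪
      (X.E '' {w | θ w = w} ∪ X.F '' {w | θ w = w}) := fun x => Or.inl (Or.inr ⟨x, (hL _).symm⟩)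
  have mc : ∀ x, p (L (X.C x)) ∈ Set.range X.B ∪ Set.range X.C ∪ Set.range X.D ∪
      (X.E '' {w | θ w = w} ∪ X.F '' {w | θ w = w}) := fun x => Or.inl (Or.inl (Or.inr ⟨x, (hL _).symm⟩))
  have hzz : Commute z z' := by
    have h1 := hz he hf (L (X.E e')) (Or.inr (Or.inl ⟨_, he', (hL _).symm⟩))
    have h2 := hz he hf (L (X.F f')) (Or.inr (Or.inr ⟨_, hf', (hL _).symm⟩))
    exact h1.mul_right h2
  have h1 : ⁅d * c, d' * c'⁆ = 1 := by
    rw [← bracket_strip ((hz he hf d (md _)).mul_right (hz he hf c (mc _)))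
      ((hz he hf d' (md _)).mul_right (hz he hf c' (mc _)))
      ((hz he' hf' d (md _)).mul_right (hz he' hf' c (mc _)))
      ((hz he' hf' d' (md _)).mul_right (hz he' hf' c' (mc _))) hzz,
      commutatorElement_eq_one_iff_commute]
    exact hcom
  have e1 : ⁅c, d'⁆ = gF X L (r * θ (dd θ s r')) := brCD X hp hc hL r _
  have e2 : ⁅d, c'⁆ = (gF X L (r' * θ (dd θ s r)))⁻¹ := by
    rw [← commutatorElement_inv]; exact congrArg (·⁻¹) (brCD X hp hc hL r' _)
  rw [pair_expand (cCC X hp hc hL r r') (cDD X hp hc hL _ _)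
    (by rw [e1]; exact commute_gF X hp hc hL (md _) _)
    (by rw [e2]; exact (commute_gF X hp hc hL (md _) _).inv_right), e1, e2, mul_inv_eq_one] at h1
  exact h1

theorem gE_zero {y : K} (h : tr θ y = 0) : gE X L y = 1 := by
  obtain ⟨z, rfl⟩ := exists_sub_of_tr X h
  rw [sub_eq_add_neg, show gE X L (z + -θ z) = gE X L z * gE X L (-θ z) from gE_add X hp hc hL _ _,
    add_neg' (f := gE X L) (gE_add X hp hc hL),
    invariant_of_rel X (gE_add X hp hc hL) (gE_rel X hp hc hL) z]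
  exact mul_inv_cancel _

theorem gF_zero {y : K} (h : tr θ y = 0) : gF X L y = 1 := by
  obtain ⟨z, rfl⟩ := exists_sub_of_tr X h
  rw [sub_eq_add_neg, show gF X L (z + -θ z) = gF X L z * gF X L (-θ z) from gF_add X hp hc hL _ _,
    add_neg' (f := gF X L) (gF_add X hp hc hL),
    invariant_of_rel X (gF_add X hp hc hL) (gF_rel X hp hc hL) z]
  exact mul_inv_cancel _

theorem tl_img {f : K → G} (hf : ∀ x y, f (x + y) = f x * f y) {H : P} {l : K} (hl : l ≠ 1)
    (ht : ∀ r, p H * f r * (p H)⁻¹ = f (l * r)) (x : K) : p (tl H L f l x) = f x := by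
  rw [tl, map_commutatorElement, hL, commutatorElement_def, ht, ← add_neg' hf, ← hf]
  congr 1
  have h1 : l - 1 ≠ 0 := sub_ne_zero.2 hl
  field_simp
  ring

theorem tl_add {f : K → G} (hf : ∀ x y, f (x + y) = f x * f y) {H : P} {l : K} (hl : l ≠ 1)
    (ht : ∀ r, p H * f r * (p H)⁻¹ = f (l * r)) (hab : ∀ x y, Commute (L (f x)) (L (f y))) (x y : K) :
    tl H L f l (x + y) = tl H L f l x * tl H L f l y := by
  simp only [tl]
  rw [← bracket_right (SLUniv.commute_congr hc rfl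
    ((tl_img X hp hc hL hf hl ht y).trans (hL _).symm) (hab _ _))]
  exact SLUniv.comm_congr hc rfl (by rw [map_mul, hL, hL, hL, ← hf, add_div])

theorem tl_conj {f : K → G} {H H' : P} {l l' : K}
    (ht' : ∀ r, p H' * f r * (p H')⁻¹ = f (l' * r)) (hcm : Commute (p H') (p H)) (x : K) :
    H' * tl H L f l x * H'⁻¹ = tl H L f l (l' * x) := by
  simp only [tl]
  rw [conjugate_commutatorElement]
  refine SLUniv.comm_congr hc ?_ ?_
  · rw [map_mul, map_mul, map_inv, hcm.eq, mul_inv_cancel_right]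
  · rw [map_mul, map_mul, map_inv, hL, hL, ht', mul_div_assoc]

theorem br_one_of_commute {g h : G} (hcm : Commute (L g) (L h)) {x y : P} (hx : p x = g) (hy : p y = h) :
    ⁅x, y⁆ = 1 := by
  rw [br_congr X hp hc hL hx hy, commutatorElement_eq_one_iff_commute]; exact hcm

omit hp hc hL in
theorem gens_cases {g : G} (hg : g ∈ gens X) :
    (∃ r, g = X.B r) ∨ (∃ r, g = X.C r) ∨ (∃ r, g = X.D r) ∨ (∃ w, θ w = w ∧ g = X.A w) ∨
      (∃ w, θ w = w ∧ g = X.E w) ∨ ∃ w, θ w = w ∧ g = X.F w := by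
  rcases hg with ((⟨r, rfl⟩ | ⟨r, rfl⟩) | ⟨r, rfl⟩) | (⟨r, hr, rfl⟩ | ⟨r, hr, rfl⟩ | ⟨r, hr, rfl⟩)
  · exact Or.inl ⟨r, rfl⟩
  · exact Or.inr (Or.inl ⟨r, rfl⟩)
  · exact Or.inr (Or.inr (Or.inl ⟨r, rfl⟩))
  · exact Or.inr (Or.inr (Or.inr (Or.inl ⟨r, hr, rfl⟩)))
  · exact Or.inr (Or.inr (Or.inr (Or.inr (Or.inl ⟨r, hr, rfl⟩))))
  · exact Or.inr (Or.inr (Or.inr (Or.inr (Or.inr ⟨r, hr, rfl⟩))))

omit X hp hL in
theorem mem_normalizer_closure {N : Subgroup P} [Finite P] (S : Set G)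
    (h : ∀ g, p g ∈ S → ∀ n ∈ N, g * n * g⁻¹ ∈ N) (hp' : Function.Surjective p) :
    (Subgroup.closure S).comap p ≤ Subgroup.normalizer (N : Set P) := by
  have key : Subgroup.closure S ≤ (Subgroup.normalizer (N : Set P)).map p := by
    rw [Subgroup.closure_le]
    intro x hx
    obtain ⟨g, hg⟩ := hp' x
    exact ⟨g, mem_normalizer_of_conj (h g (by rw [hg]; exact hx)), hg⟩
  intro g hg
  obtain ⟨g', hg', e⟩ := key hg
  have hk : g'⁻¹ * g ∈ Subgroup.center P :=
    hc (by rw [MonoidHom.mem_ker, map_mul, map_inv, e, inv_mul_cancel])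
  have := mul_mem hg' (show g'⁻¹ * g ∈ Subgroup.normalizer (N : Set P) from
    Subgroup.mem_normalizer_iff.2 fun w => by
      rw [← Subgroup.mem_center_iff.1 hk w, mul_inv_cancel_right])
  rwa [mul_inv_cancel_left] at this

/-- the derived group of the preimage meets the kernel trivially -/
theorem inter [Finite P] {z : P} (hz : z ∈ p.ker)
    (hz' : z ∈ ⁅(Subgroup.closure (gens X)).comap p, (Subgroup.closure (gens X)).comap p⁆) : z = 1 := by
  classical
  set S := (Subgroup.closure (gens X)).comap p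
  have hS : ∀ {g : P}, p g ∈ gens X → g ∈ S := fun h => Subgroup.subset_closure h
  obtain ⟨a₀, b₀, l, m, ha₀, hl, hm, hB0, hC0, hD0, hA0, -, -⟩ := exists_tv X
  set H := L (X.T a₀ b₀)
  have hH : p H = X.T a₀ b₀ := hL _
  have htD : ∀ r, p H * X.D r * (p H)⁻¹ = X.D (m * r) := fun r => by rw [hH]; exact hD0 r
  have htC : ∀ r, p H * X.C r * (p H)⁻¹ = X.C (l * r) := fun r => by rw [hH]; exact hC0 r
  set Dt := tl H L X.D m
  set Ct := tl H L X.C l
  have iD : ∀ x, p (Dt x) = X.D x := tl_img X hp hc hL X.addD hm htD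
  have iC : ∀ x, p (Ct x) = X.C x := tl_img X hp hc hL X.addC hl htC
  have aD : ∀ x y, Dt (x + y) = Dt x * Dt y := tl_add X hp hc hL X.addD hm htD (cDD X hp hc hL)
  have aC : ∀ x y, Ct (x + y) = Ct x * Ct y := tl_add X hp hc hL X.addC hl htC (cCC X hp hc hL)
  have aE : ∀ x y, gE X L (x + y) = gE X L x * gE X L y := gE_add X hp hc hL
  have aF : ∀ x y, gF X L (x + y) = gF X L x * gF X L y := gF_add X hp hc hL
  have mD : ∀ {g : P} {x}, p g = X.D x → p g ∈ Set.range X.B ∪ Set.range X.C ∪ Set.range X.D ∪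
      (X.E '' {w | θ w = w} ∪ X.F '' {w | θ w = w}) := fun h => Or.inl (Or.inr ⟨_, h.symm⟩)
  have mEF : ∀ y, p (gE X L y) ∈ Set.range X.B ∪ Set.range X.C ∪ Set.range X.D ∪
      (X.E '' {w | θ w = w} ∪ X.F '' {w | θ w = w}) := fun y =>
    Or.inr (Or.inl ⟨_, fix_tr X y, (gE_img X hp hc hL y).symm⟩)
  obtain ⟨N0, hN0⟩ := exists_sub3 aD aE aF (fun x y => commute_gE X hp hc hL (mD (iD x)) y)
    (fun x y => commute_gF X hp hc hL (mD (iD x)) y) (fun x y => commute_gF X hp hc hL (mEF x) y)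
  have hE : ∀ y, gE X L y ∈ N0 := fun y => (hN0 _).2 ⟨0, y, 0, by
    rw [add_zero' aD, add_zero' aF, one_mul, mul_one]⟩
  have hF : ∀ y, gF X L y ∈ N0 := fun y => (hN0 _).2 ⟨0, 0, y, by
    rw [add_zero' aD, add_zero' aE, one_mul, one_mul]⟩
  have hD : ∀ x, Dt x ∈ N0 := fun x => (hN0 _).2 ⟨x, 0, 0, by
    rw [add_zero' aE, add_zero' aF, mul_one, mul_one]⟩
  have k0 : ∀ n ∈ N0, p n = 1 → n = 1 := by
    intro n hn h1
    obtain ⟨x, y, y', rfl⟩ := (hN0 n).1 hn
    rw [map_mul, map_mul, iD, gE_img X hp hc hL, gF_img X hp hc hL] at h1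
    obtain ⟨-, e1, e2, e3⟩ := X.inj 0 x (tr θ y) (tr θ y') (fix_tr X y) (fix_tr X y')
      (by rw [add_zero' X.addC, one_mul]; exact h1)
    rw [e1, gE_zero X hp hc hL e2, gF_zero X hp hc hL e3, add_zero' aD, one_mul, one_mul]
  have img0 : ∀ d e f, θ e = e → θ f = f → ∃ n ∈ N0, p n = X.D d * X.E e * X.F f := by
    intro d e f he hf
    obtain ⟨y, hy⟩ := exists_tr X he
    obtain ⟨y', hy'⟩ := exists_tr X hf
    exact ⟨Dt d * gE X L y * gF X L y', mul_mem (mul_mem (hD d) (hE y)) (hF y'),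
      by rw [map_mul, map_mul, iD, gE_img X hp hc hL, gF_img X hp hc hL, hy, hy']⟩
  -- conjugation of `D̃` and of the commutator lifts by the generators
  have cjD : ∀ {g : P}, p g ∈ gens X → ∀ x, g * Dt x * g⁻¹ ∈ N0 := by
    intro g hg x
    rw [conj_eq_bracket]
    refine mul_mem ?_ (hD x)
    rcases gens_cases X hg with ⟨r, e⟩ | ⟨r, e⟩ | ⟨r, e⟩ | ⟨w, hw, e⟩ | ⟨w, hw, e⟩ | ⟨w, hw, e⟩
    · rw [br_congr X hp hc hL e (iD x), brBD X hp hc hL]; exact hE _
    · rw [br_congr X hp hc hL e (iD x), brCD X hp hc hL]; exact hF _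
    · rw [br_one_of_commute X hp hc hL (cDD X hp hc hL r x) e (iD x)]; exact one_mem _
    · rw [br_one_of_commute X hp hc hL (short_long X hp hc hL hw x).2.2.2.2.2.1.symm e (iD x)]
      exact one_mem _
    · rw [br_one_of_commute X hp hc hL (short_long X hp hc hL hw x).2.2.2.2.2.2.1.symm e (iD x)]
      exact one_mem _
    · rw [br_one_of_commute X hp hc hL (short_long X hp hc hL hw x).2.2.2.2.2.2.2.symm e (iD x)]
      exact one_mem _
  have cjEF : ∀ {g : P}, p g ∈ gens X → ∀ y, g * gE X L y * g⁻¹ ∈ N0 ∧ g * gF X L y * g⁻¹ ∈ N0 := by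
    intro g hg y
    have triv : p g ∈ Set.range X.B ∪ Set.range X.C ∪ Set.range X.D ∪
        (X.E '' {w | θ w = w} ∪ X.F '' {w | θ w = w}) →
        g * gE X L y * g⁻¹ ∈ N0 ∧ g * gF X L y * g⁻¹ ∈ N0 := fun h => by
      rw [(commute_gE X hp hc hL h y).eq, (commute_gF X hp hc hL h y).eq, mul_inv_cancel_right,
        mul_inv_cancel_right]
      exact ⟨hE y, hF y⟩
    rcases hg with hg | (⟨w, hw, e⟩ | hg)
    · exact triv (Or.inl hg)
    · refine ⟨?_, by rw [(gF_A X hp hc hL hw e.symm y).eq, mul_inv_cancel_right]; exact hF y⟩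
      obtain ⟨d, e', f, he', hf, hAB⟩ := X.rAB w 1 hw
      set W := L (X.C (w * 1)) * (L (X.D d) * (L (X.E e') * L (X.F f)))
      have mW : ∀ h : P, (∀ k, p k = X.C (w * 1) ∨ p k = X.D d ∨ p k = X.E e' ∨ p k = X.F f → Commute k h) →
          Commute W h := fun h hh =>
        (hh _ (Or.inl (hL _))).mul_left ((hh _ (Or.inr (Or.inl (hL _)))).mul_left
          ((hh _ (Or.inr (Or.inr (Or.inl (hL _))))).mul_left (hh _ (Or.inr (Or.inr (Or.inr (hL _)))))))
      have hWg : ∀ k, p k = X.C (w * 1) ∨ p k = X.D d ∨ p k = X.E e' ∨ p k = X.F f → p k ∈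
          Set.range X.B ∪ Set.range X.C ∪ Set.range X.D ∪ (X.E '' {w | θ w = w} ∪ X.F '' {w | θ w = w}) := by
        rintro k (h | h | h | h)
        exacts [Or.inl (Or.inl (Or.inr ⟨_, h.symm⟩)), mD h, Or.inr (Or.inl ⟨_, he', h.symm⟩),
          Or.inr (Or.inr ⟨_, hf, h.symm⟩)]
      show g * ⁅L (X.B 1), L (X.D (θ.symm y))⁆ * g⁻¹ ∈ N0
      rw [conjugate_commutatorElement, SLUniv.comm_congr hc (a' := W * L (X.B 1))
        (b' := L (X.D (θ.symm y))) (by
          simp only [W, map_mul, map_inv, hL, ← e]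
          rw [conj_eq_bracket, hAB]; group) (by
          simp only [map_mul, map_inv, hL, ← e]
          rw [(X.cAD w _ hw).eq, mul_inv_cancel_right])]
      rw [bracket_left (mW _ fun k hk => commute_gE X hp hc hL (hWg k hk) y)]
      refine mul_mem (hE y) ?_
      have h0 : Commute (L (X.D d) * (L (X.E e') * L (X.F f))) (L (X.D (θ.symm y))) :=
        (cDD X hp hc hL _ _).mul_left ((short_long X hp hc hL he' _).2.2.2.2.2.2.1.symm.mul_left
          (short_long X hp hc hL hf _).2.2.2.2.2.2.2.symm)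
      show ⁅L (X.C (w * 1)) * _, _⁆ ∈ N0
      rw [bracket_left (by rw [commutatorElement_eq_one_iff_commute.2 h0]; exact Commute.one_right _),
        commutatorElement_eq_one_iff_commute.2 h0, one_mul, brCD X hp hc hL]
      exact hF _
    · exact triv (Or.inr hg)
  have hnorm0 : S ≤ Subgroup.normalizer (N0 : Set P) := by
    refine mem_normalizer_closure hc (gens X) (fun g hg n hn => ?_) hp
    obtain ⟨x, y, y', rfl⟩ := (hN0 n).1 hn
    rw [show g * (Dt x * gE X L y * gF X L y') * g⁻¹ =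
      (g * Dt x * g⁻¹) * (g * gE X L y * g⁻¹) * (g * gF X L y' * g⁻¹) by group]
    exact mul_mem (mul_mem (cjD hg x) (cjEF hg y).1) (cjEF hg y').2
  have conj0 : ∀ {g : P}, g ∈ S → ∀ {n}, n ∈ N0 → g * n * g⁻¹ ∈ N0 := fun {g} hg {n} hn =>
    (Subgroup.mem_normalizer_iff.1 (hnorm0 hg) n).1 hn
  -- the torus normalises too
  have hT : ∀ a b : Kˣ, θ (a : K) = a → ∀ n ∈ N0, L (X.T a b) * n * (L (X.T a b))⁻¹ ∈ N0 := by
    intro a b ha n hn
    obtain ⟨x, y, y', rfl⟩ := (hN0 n).1 hn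
    set T := L (X.T a b)
    rw [show T * (Dt x * gE X L y * gF X L y') * T⁻¹ =
      (T * Dt x * T⁻¹) * (T * gE X L y * T⁻¹) * (T * gF X L y' * T⁻¹) by group]
    refine mul_mem (mul_mem ?_ ?_) ?_
    · rw [tl_conj X hp hc hL (l' := (b : K) * θ b / θ (θ b)) (fun r => by rw [hL]; exact X.tD a b ha r)
        (by rw [hL, hH]; exact X.T_comm a b a₀ b₀ ha ha₀) x]
      exact hD _
    · rw [gE, br_conj X hp hc hL T (g' := X.B _) (h' := X.D _) (by rw [hL]; exact X.tB a b ha 1) (by rw [hL]; exact X.tD a b ha _),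
        brBD X hp hc hL]
      exact hE _
    · rw [gF, br_conj X hp hc hL T (g' := X.C _) (h' := X.D _) (by rw [hL]; exact X.tC a b ha 1) (by rw [hL]; exact X.tD a b ha _),
        brCD X hp hc hL]
      exact hF _
  -- `[B, C]`
  have hex : ∀ r s, ∃ c ∈ p.ker, ⁅L (X.B r), L (X.C s)⁆ * c ∈ N0 := by
    intro r s
    obtain ⟨e, f, he, hf, h⟩ := X.rBC r s
    obtain ⟨n, hn, en⟩ := img0 (dd θ r s) e f he hf
    exact ⟨⁅L (X.B r), L (X.C s)⁆⁻¹ * n, by
      rw [MonoidHom.mem_ker, map_mul, map_inv, map_commutatorElement, hL, hL, h, en, inv_mul_cancel],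
      by rwa [mul_inv_cancel_left]⟩
  choose φ hφk hφ using hex
  have uniq : ∀ {u c c' : P}, c ∈ p.ker → c' ∈ p.ker → u * c ∈ N0 → u * c' ∈ N0 → c = c' := by
    intro u c c' hc1 hc2 h1 h2'
    have h4 := k0 _ (mul_mem (inv_mem h1) h2') (by
      rw [show (u * c)⁻¹ * (u * c') = c⁻¹ * c' by group, map_mul, map_inv, MonoidHom.mem_ker.1 hc1,
        MonoidHom.mem_ker.1 hc2, inv_one, one_mul])
    exact inv_mul_eq_one.1 (by rwa [show (u * c)⁻¹ * (u * c') = c⁻¹ * c' by group] at h4)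
  have zc : ∀ {c : P}, c ∈ p.ker → ∀ x, x * c = c * x := fun hck => Subgroup.mem_center_iff.1 (hc hck)
  have gB : ∀ r, L (X.B r) ∈ S := fun r => hS (Or.inl (Or.inl (Or.inl ⟨r, (hL _).symm⟩)))
  have gC : ∀ r, L (X.C r) ∈ S := fun r => hS (Or.inl (Or.inl (Or.inr ⟨r, (hL _).symm⟩)))
  have φaddC : ∀ r s s', φ r (s + s') = φ r s * φ r s' := by
    intro r s s'
    refine uniq (hφk _ _) (mul_mem (hφk _ _) (hφk _ _)) (hφ r (s + s')) ?_
    have h := mul_mem (hφ r s) (conj0 (gC s) (hφ r s'))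
    convert h using 1
    rw [← br_congr X hp hc hL (x := L (X.B r)) (y := L (X.C s) * L (X.C s')) (hL _)
      (by rw [map_mul, hL, hL, X.addC])]
    set b := L (X.B r)
    set u := L (X.C s)
    set v := L (X.C s')
    calc ⁅b, u * v⁆ * (φ r s * φ r s') = ⁅b, u⁆ * ((u * ⁅b, v⁆ * u⁻¹) * φ r s) * φ r s' := by
          simp only [commutatorElement_def]; group
      _ = ⁅b, u⁆ * (φ r s * (u * ⁅b, v⁆ * u⁻¹)) * φ r s' := by rw [zc (hφk r s)]
      _ = ⁅b, u⁆ * φ r s * (u * ⁅b, v⁆ * (u⁻¹ * φ r s')) := by group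
      _ = ⁅b, u⁆ * φ r s * (u * ⁅b, v⁆ * (φ r s' * u⁻¹)) := by rw [zc (hφk r s') u⁻¹]
      _ = _ := by group
  have φaddB : ∀ r r' s, φ (r + r') s = φ r s * φ r' s := by
    intro r r' s
    refine uniq (hφk _ _) (mul_mem (hφk _ _) (hφk _ _)) (hφ (r + r') s) ?_
    have h := mul_mem (conj0 (gB r) (hφ r' s)) (hφ r s)
    convert h using 1
    rw [← br_congr X hp hc hL (x := L (X.B r) * L (X.B r')) (y := L (X.C s))
      (by rw [map_mul, hL, hL, X.addB]) (hL _)]
    set b := L (X.B r)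
    set b' := L (X.B r')
    set u := L (X.C s)
    rw [zc (hφk r' s) (φ r s)]
    calc ⁅b * b', u⁆ * (φ r' s * φ r s) = b * ⁅b', u⁆ * b⁻¹ * (⁅b, u⁆ * φ r' s) * φ r s := by
          simp only [commutatorElement_def]; group
      _ = b * ⁅b', u⁆ * b⁻¹ * (φ r' s * ⁅b, u⁆) * φ r s := by rw [zc (hφk r' s)]
      _ = b * ⁅b', u⁆ * (b⁻¹ * φ r' s) * (⁅b, u⁆ * φ r s) := by group
      _ = b * ⁅b', u⁆ * (φ r' s * b⁻¹) * (⁅b, u⁆ * φ r s) := by rw [zc (hφk r' s) b⁻¹]
      _ = _ := by group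
  have φinv : ∀ (a b : Kˣ) (lb lc : K), θ (a : K) = a →
      (∀ r, X.T a b * X.B r * (X.T a b)⁻¹ = X.B (lb * r)) →
      (∀ r, X.T a b * X.C r * (X.T a b)⁻¹ = X.C (lc * r)) → ∀ r s, φ (lb * r) (lc * s) = φ r s := by
    intro a b lb lc ha hb hcc r s
    refine uniq (hφk _ _) (hφk _ _) (hφ _ _) ?_
    have h := hT a b ha _ (hφ r s)
    convert h using 1
    set T := L (X.T a b)
    rw [← br_conj X hp hc hL T (g := X.B r) (h := X.C s) (by rw [hL]; exact hb r) (by rw [hL]; exact hcc s)]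
    calc T * ⁅L (X.B r), L (X.C s)⁆ * T⁻¹ * φ r s
        = T * ⁅L (X.B r), L (X.C s)⁆ * (T⁻¹ * φ r s) := by group
      _ = T * ⁅L (X.B r), L (X.C s)⁆ * (φ r s * T⁻¹) := by rw [zc (hφk r s) T⁻¹]
      _ = _ := by group
  have φone : ∀ r s, φ r s = 1 := by
    by_cases hfix : ∃ a : K, θ a = a ∧ a ≠ 0 ∧ a ≠ 1
    · obtain ⟨a, ha, ha0, ha1⟩ := hfix
      intro r
      set A : Kˣ := Units.mk0 a ha0
      have hA2 : θ ((A * A : Kˣ) : K) = (A * A : Kˣ) := by
        rw [Units.val_mul, map_mul, Units.val_mk0, ha]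
      refine eq_one_of_scale (f := φ r) (φaddC r) ha1 fun s => ?_
      have h := φinv (A * A) A 1 a hA2 (fun t => by
        rw [X.tB _ _ hA2]; congr 1; simp [A]; field_simp) (fun t => by
        rw [X.tC _ _ hA2]; congr 1; simp [A, ha]; field_simp; simp) r s
      rwa [one_mul] at h
    · push Not at hfix
      refine fun r s => pairing_eq_one (f := φ) (eight X) (fun r s => hc (hφk r s))
        (fun r r' s => φaddB r r' s) φaddC (fun x hx t u => ?_) r s
      obtain ⟨b, hb⟩ := exists_root X (Units.mk0 x hx)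
      rw [Units.val_mk0] at hb
      have h0 : (b : K) ≠ 0 := b.ne_zero
      have h1 : θ (b : K) ≠ 0 := (map_ne_zero_iff θ θ.injective).2 h0
      have h2 : θ (θ (b : K)) ≠ 0 := (map_ne_zero_iff θ θ.injective).2 h1
      have hN : (b : K) * θ b * θ (θ b) = 1 :=
        hfix _ (by simp only [map_mul, X.h3]; ring) (mul_ne_zero (mul_ne_zero h0 h1) h2)
      refine φinv 1 b x x (map_one θ) (fun v => ?_) (fun v => ?_) t u
      · rw [X.tB 1 b (map_one θ), ← hb, Units.val_one, div_one]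
        congr 2
        rw [eq_div_iff (mul_ne_zero h1 h2)]
        linear_combination (b : K) * hN
      · rw [X.tC 1 b (map_one θ), ← hb, Units.val_one, one_mul]
  have hBC : ∀ r s, ⁅L (X.B r), L (X.C s)⁆ ∈ N0 := fun r s => by
    have := hφ r s; rwa [φone r s, mul_one] at this
  -- the subgroup with the third root group
  have hCS : ∀ x, Ct x ∈ S := fun x => hS (by rw [iC]; exact Or.inl (Or.inl (Or.inr ⟨x, rfl⟩)))
  let N1 : Subgroup P :=
    { carrier := {g | ∃ x, ∃ n ∈ N0, g = Ct x * n}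
      one_mem' := ⟨0, 1, one_mem _, by rw [add_zero' aC, one_mul]⟩
      mul_mem' := by
        rintro _ _ ⟨x, n, hn, rfl⟩ ⟨x', n', hn', rfl⟩
        refine ⟨x + x', (Ct x')⁻¹ * n * Ct x' * n', mul_mem ?_ hn', by rw [aC]; group⟩
        have := conj0 (inv_mem (hCS x')) hn
        rwa [inv_inv] at this
      inv_mem' := by
        rintro _ ⟨x, n, hn, rfl⟩
        exact ⟨-x, Ct x * n⁻¹ * (Ct x)⁻¹, conj0 (hCS x) (inv_mem hn), by rw [add_neg' aC]; group⟩ }
  have hN01 : N0 ≤ N1 := fun n hn => ⟨0, n, hn, by rw [add_zero' aC, one_mul]⟩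
  have hC1 : ∀ x, Ct x ∈ N1 := fun x => ⟨x, 1, one_mem _, (mul_one _).symm⟩
  have k1 : ∀ n ∈ N1, p n = 1 → n = 1 := by
    rintro _ ⟨x, n, hn, rfl⟩ h1
    obtain ⟨d, y, y', rfl⟩ := (hN0 n).1 hn
    rw [map_mul, iC, map_mul, map_mul, iD, gE_img X hp hc hL, gF_img X hp hc hL, ← mul_assoc,
      ← mul_assoc] at h1
    obtain ⟨e0, e1, e2, e3⟩ := X.inj x d (tr θ y) (tr θ y') (fix_tr X y) (fix_tr X y') h1
    rw [e0, e1, gE_zero X hp hc hL e2, gF_zero X hp hc hL e3, add_zero' aC, add_zero' aD]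
    simp
  have cjC : ∀ {g : P}, p g ∈ gens X → ∀ x, g * Ct x * g⁻¹ ∈ N1 := by
    intro g hg x
    rw [conj_eq_bracket]
    refine mul_mem (hN01 ?_) (hC1 x)
    rcases gens_cases X hg with ⟨r, e⟩ | ⟨r, e⟩ | ⟨r, e⟩ | ⟨w, hw, e⟩ | ⟨w, hw, e⟩ | ⟨w, hw, e⟩
    · rw [br_congr X hp hc hL e (iC x)]; exact hBC _ _
    · rw [br_one_of_commute X hp hc hL (cCC X hp hc hL r x) e (iC x)]; exact one_mem _
    · rw [← commutatorElement_inv, br_congr X hp hc hL (iC x) e, brCD X hp hc hL]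
      exact inv_mem (hF _)
    · rw [br_one_of_commute X hp hc hL (short_long X hp hc hL hw x).2.2.1.symm e (iC x)]
      exact one_mem _
    · rw [br_one_of_commute X hp hc hL (short_long X hp hc hL hw x).2.2.2.1.symm e (iC x)]
      exact one_mem _
    · rw [br_one_of_commute X hp hc hL (short_long X hp hc hL hw x).2.2.2.2.1.symm e (iC x)]
      exact one_mem _
  have hnorm1 : S ≤ Subgroup.normalizer (N1 : Set P) := by
    refine mem_normalizer_closure hc (gens X) (fun g hg n hn => ?_) hp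
    obtain ⟨x, n, hn, rfl⟩ := hn
    rw [show g * (Ct x * n) * g⁻¹ = (g * Ct x * g⁻¹) * (g * n * g⁻¹) by group]
    exact mul_mem (cjC hg x) (hN01 (conj0 (hS hg) hn))
  have conj1 : ∀ {g : P}, g ∈ S → ∀ {n}, n ∈ N1 → g * n * g⁻¹ ∈ N1 := fun {g} hg {n} hn =>
    (Subgroup.mem_normalizer_iff.1 (hnorm1 hg) n).1 hn
  -- `[A, B]`
  have hAB : ∀ w, θ w = w → ∀ r, ⁅L (X.A w), L (X.B r)⁆ ∈ N1 := by
    intro w hw
    have hex1 : ∀ r, ∃ c ∈ p.ker, ⁅L (X.A w), L (X.B r)⁆ * c ∈ N1 := by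
      intro r
      obtain ⟨d, e, f, he, hf, h⟩ := X.rAB w r hw
      obtain ⟨n, hn, en⟩ := img0 d e f he hf
      exact ⟨⁅L (X.A w), L (X.B r)⁆⁻¹ * (Ct (w * r) * n), by
        rw [MonoidHom.mem_ker, map_mul, map_inv, map_commutatorElement, hL, hL, h, map_mul, iC, en]
        group,
        by rw [mul_inv_cancel_left]; exact ⟨_, n, hn, rfl⟩⟩
    choose ψ hψk hψ using hex1
    have uniq1 : ∀ {u c c' : P}, c ∈ p.ker → c' ∈ p.ker → u * c ∈ N1 → u * c' ∈ N1 → c = c' := by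
      intro u c c' hc1 hc2 h1 h2'
      have h4 := k1 _ (mul_mem (inv_mem h1) h2') (by
        rw [show (u * c)⁻¹ * (u * c') = c⁻¹ * c' by group, map_mul, map_inv, MonoidHom.mem_ker.1 hc1,
          MonoidHom.mem_ker.1 hc2, inv_one, one_mul])
      exact inv_mul_eq_one.1 (by rwa [show (u * c)⁻¹ * (u * c') = c⁻¹ * c' by group] at h4)
    have ψadd : ∀ r r', ψ (r + r') = ψ r * ψ r' := by
      intro r r'
      refine uniq1 (hψk _) (mul_mem (hψk _) (hψk _)) (hψ (r + r')) ?_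
      have h := mul_mem (hψ r) (conj1 (gB r) (hψ r'))
      convert h using 1
      rw [← br_congr X hp hc hL (x := L (X.A w)) (y := L (X.B r) * L (X.B r')) (hL _)
        (by rw [map_mul, hL, hL, X.addB])]
      set a := L (X.A w)
      set u := L (X.B r)
      set v := L (X.B r')
      calc ⁅a, u * v⁆ * (ψ r * ψ r') = ⁅a, u⁆ * ((u * ⁅a, v⁆ * u⁻¹) * ψ r) * ψ r' := by
            simp only [commutatorElement_def]; group
        _ = ⁅a, u⁆ * (ψ r * (u * ⁅a, v⁆ * u⁻¹)) * ψ r' := by rw [zc (hψk r)]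
        _ = ⁅a, u⁆ * ψ r * (u * ⁅a, v⁆ * (u⁻¹ * ψ r')) := by group
        _ = ⁅a, u⁆ * ψ r * (u * ⁅a, v⁆ * (ψ r' * u⁻¹)) := by rw [zc (hψk r') u⁻¹]
        _ = _ := by group
    have hH1 : ∀ n ∈ N1, H * n * H⁻¹ ∈ N1 := by
      rintro _ ⟨x, n, hn, rfl⟩
      rw [show H * (Ct x * n) * H⁻¹ = (H * Ct x * H⁻¹) * (H * n * H⁻¹) by group,
        tl_conj X hp hc hL htC (Commute.refl _) x]
      exact mul_mem (hC1 _) (hN01 (hT a₀ b₀ ha₀ n hn))
    have ψone : ∀ r, ψ r = 1 := by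
      refine eq_one_of_scale (f := ψ) ψadd hl fun r => ?_
      refine uniq1 (hψk _) (hψk _) (hψ _) ?_
      have h := hH1 _ (hψ r)
      convert h using 1
      rw [← br_conj X hp hc hL H (g := X.A w) (h := X.B r) (by rw [hH]; exact hA0 w hw)
        (by rw [hH]; exact hB0 r)]
      calc H * ⁅L (X.A w), L (X.B r)⁆ * H⁻¹ * ψ r
          = H * ⁅L (X.A w), L (X.B r)⁆ * (H⁻¹ * ψ r) := by group
        _ = H * ⁅L (X.A w), L (X.B r)⁆ * (ψ r * H⁻¹) := by rw [zc (hψk r) H⁻¹]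
        _ = _ := by group
    intro r
    have := hψ r
    rwa [ψone r, mul_one] at this
  -- commutators of the generators
  have hAE : ∀ w e, θ w = w → θ e = e → ⁅L (X.A w), L (X.E e)⁆ ∈ N1 := by
    intro w e hw he
    obtain ⟨y, hy⟩ := exists_tr X he
    have h1 := (cjEF (g := L (X.A w)) (by rw [hL]; exact Or.inr (Or.inl ⟨w, hw, rfl⟩)) y).1
    rw [← SLUniv.comm_congr hc rfl (show p (gE X L y) = p (L (X.E e)) by
      rw [gE_img X hp hc hL, hy, hL]), show ⁅L (X.A w), gE X L y⁆ =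
      L (X.A w) * gE X L y * (L (X.A w))⁻¹ * (gE X L y)⁻¹ from rfl]
    exact hN01 (mul_mem h1 (inv_mem (hE y)))
  have key : ∀ g h : G, g ∈ gens X → h ∈ gens X → ⁅L g, L h⁆ ∈ N1 := by
    intro g h hg hh
    have one1 : ∀ {g h : G}, Commute (L g) (L h) → ⁅L g, L h⁆ ∈ N1 := fun hgh => by
      rw [commutatorElement_eq_one_iff_commute.2 hgh]; exact one_mem _
    have flipm : ∀ {g h : G}, ⁅L g, L h⁆ ∈ N1 → ⁅L h, L g⁆ ∈ N1 := fun hgh => by
      rw [← commutatorElement_inv]; exact inv_mem hgh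
    have nBC : ∀ r s, ⁅L (X.B r), L (X.C s)⁆ ∈ N1 := fun r s => hN01 (hBC r s)
    have nBD : ∀ r d, ⁅L (X.B r), L (X.D d)⁆ ∈ N1 := fun r d => by
      rw [brBD X hp hc hL]; exact hN01 (hE _)
    have nCD : ∀ r d, ⁅L (X.C r), L (X.D d)⁆ ∈ N1 := fun r d => by
      rw [brCD X hp hc hL]; exact hN01 (hF _)
    rcases gens_cases X hg with ⟨r, rfl⟩ | ⟨r, rfl⟩ | ⟨r, rfl⟩ | ⟨r, hr, rfl⟩ | ⟨r, hr, rfl⟩ | ⟨r, hr, rfl⟩ <;>
    rcases gens_cases X hh with ⟨s, rfl⟩ | ⟨s, rfl⟩ | ⟨s, rfl⟩ | ⟨s, hs, rfl⟩ | ⟨s, hs, rfl⟩ | ⟨s, hs, rfl⟩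
    exacts [one1 (cBB X hp hc hL r s), nBC r s, nBD r s, flipm (hAB s hs r),
      one1 (short_long X hp hc hL hs r).1, one1 (short_long X hp hc hL hs r).2.1,
      flipm (nBC s r), one1 (cCC X hp hc hL r s), nCD r s, one1 (short_long X hp hc hL hs r).2.2.1,
      one1 (short_long X hp hc hL hs r).2.2.2.1, one1 (short_long X hp hc hL hs r).2.2.2.2.1,
      flipm (nBD s r), flipm (nCD s r), one1 (cDD X hp hc hL r s),
      one1 (short_long X hp hc hL hs r).2.2.2.2.2.1, one1 (short_long X hp hc hL hs r).2.2.2.2.2.2.1,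
      one1 (short_long X hp hc hL hs r).2.2.2.2.2.2.2,
      hAB r hr s, one1 (short_long X hp hc hL hr s).2.2.1.symm, one1 (short_long X hp hc hL hr s).2.2.2.2.2.1.symm,
      one1 (long_long X hp hc hL hr hs).2.2.2.2, hAE r s hr hs, one1 (long_long X hp hc hL hr hs).1,
      one1 (short_long X hp hc hL hr s).1.symm, one1 (short_long X hp hc hL hr s).2.2.2.1.symm,
      one1 (short_long X hp hc hL hr s).2.2.2.2.2.2.1.symm, flipm (hAE s r hs hr),
      one1 (long_long X hp hc hL hr hs).2.1, one1 (long_long X hp hc hL hr hs).2.2.1,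
      one1 (short_long X hp hc hL hr s).2.1.symm, one1 (short_long X hp hc hL hr s).2.2.2.2.1.symm,
      one1 (short_long X hp hc hL hr s).2.2.2.2.2.2.2.symm, one1 (long_long X hp hc hL hs hr).1.symm,
      one1 (long_long X hp hc hL hs hr).2.2.1.symm, one1 (long_long X hp hc hL hr hs).2.2.2.1]
  have : (N1.subgroupOf S).Normal := Subgroup.normal_subgroupOf_of_le_normalizer hnorm1
  have hgenS : ∀ g : P, g ∈ S → g ∈ Subgroup.closure (p ⁻¹' gens X ∪ (p.ker : Set P)) := by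
    intro g hg
    have hmap : Subgroup.closure (gens X) ≤
        (Subgroup.closure (p ⁻¹' gens X ∪ (p.ker : Set P))).map p := by
      rw [Subgroup.closure_le]
      exact fun x hx => ⟨L x, Subgroup.subset_closure (Or.inl (by rw [Set.mem_preimage, hL]; exact hx)), hL x⟩
    obtain ⟨g', hg', e⟩ := hmap hg
    have := mul_mem hg' (show g'⁻¹ * g ∈ Subgroup.closure (p ⁻¹' gens X ∪ (p.ker : Set P)) from
      Subgroup.subset_closure (Or.inr (show g'⁻¹ * g ∈ p.ker by
        rw [MonoidHom.mem_ker, map_mul, map_inv, e, inv_mul_cancel])))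
    rwa [mul_inv_cancel_left] at this
  have hsub : commutator S ≤ N1.subgroupOf S := by
    refine MultSylow.commutator_le_of_gens _ (S.subtype ⁻¹' (p ⁻¹' gens X ∪ (p.ker : Set P))) ?_ ?_
    · apply Subgroup.map_injective S.subtype_injective
      rw [MonoidHom.map_closure, ← MonoidHom.range_eq_map, Subgroup.range_subtype,
        Set.image_preimage_eq_of_subset]
      · refine le_antisymm ((Subgroup.closure_le _).2 ?_) hgenS
        rintro g (hg | hg)
        · exact hS hg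
        · show p g ∈ Subgroup.closure (gens X)
          rw [show p g = 1 from hg]; exact one_mem _
      · rw [Subgroup.coe_subtype, Subtype.range_coe]
        rintro g (hg | hg)
        · exact hS hg
        · show p g ∈ Subgroup.closure (gens X)
          rw [show p g = 1 from hg]; exact one_mem _
    · intro a ha b hb
      rw [Subgroup.mem_subgroupOf]
      show ⁅(a : P), (b : P)⁆ ∈ N1
      rcases ha with ha | ha
      · rcases hb with hb | hb
        · rw [br_congr X hp hc hL (g := p (a : P)) (h := p (b : P)) rfl rfl]; exact key _ _ ha hb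
        · rw [commutatorElement_eq_one_iff_commute.2 (Subgroup.mem_center_iff.1 (hc (show (b : P) ∈ p.ker from hb)) (a : P))]
          exact one_mem _
      · rw [commutatorElement_eq_one_iff_commute.2 (Subgroup.mem_center_iff.1 (hc (show (a : P) ∈ p.ker from ha)) (b : P)).symm]
        exact one_mem _
  rw [← Subgroup.map_subtype_commutator] at hz'
  obtain ⟨w, hw, rfl⟩ := hz'
  exact k1 _ (hsub hw) hz

end CfsgLib.Lie.Mult.TD4Six
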