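import Cfsg.Agent.Lib.Lie.Mult.TD4.Members
import Cfsg.Agent.Lib.Lie.Mult.TD4.SixDerived
import Cfsg.Agent.Lib.Lie.Mult.Sylow
import Cfsg.Agent.Lib.Lie.Chev.Cent

/-!
# The root datum of `³D₄(q)` and its defining prime
-/

set_option autoImplicit false
set_option maxRecDepth 100000
set_option linter.unusedSimpArgs false
set_option linter.unusedSectionVars false

namespace CfsgLib.Lie.Mult.TD4Data

open Cfsg.Lie CfsgLib.Lie.Chev TD4Coord TD4Rel
open scoped MatrixGroups commutatorElement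

theorem conj_mul' {G : Type*} [Group G] {h a b : G} :
    h * (a * b) * h⁻¹ = h * a * h⁻¹ * (h * b * h⁻¹) := by group

variable {K : Type*} [Field K] {q : ℕ} (θ : K ≃+* K) (hθ : ∀ x, θ x = x ^ q) (h3 : ∀ t : K, θ (θ (θ t)) = t)

/-- torus weight -/
theorem tor_X {r : ℕ} (hr : r < chevD4.nroots) (k0 k1 k2 k3 : ℤ)
    (hk : ([TD4.nd 0, TD4.nd 1, TD4.nd 2, TD4.nd 3] : List (Fin chevD4.rank)).map (fun i => cart chevD4 i ⟨r, hr⟩) =
      [k0, k1, k2, k3]) (a b : Kˣ) (t : K) :
    TD4.C.G.torθ (TD4.par θ a b) * X r t * (TD4.C.G.torθ (TD4.par θ a b))⁻¹ =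
      X r ((a : K) ^ k1 * (b : K) ^ k0 * θ (b : K) ^ k2 * θ (θ (b : K)) ^ k3 * t) := by
  rw [X_eq r hr, X_eq r hr, TD4.C.G.torθ_conj_xu]
  congr 2
  simp only [List.map_cons, List.map_nil, List.cons.injEq, and_true] at hk
  obtain ⟨e0, e1, e2, e3⟩ := hk
  have hu : (Finset.univ : Finset (Fin chevD4.rank)) = {TD4.nd 0, TD4.nd 1, TD4.nd 2, TD4.nd 3} := by
    decide +kernel
  have hd : (TD4.nd 0 : Fin chevD4.rank) ∉ ({TD4.nd 1, TD4.nd 2, TD4.nd 3} : Finset _) ∧
      (TD4.nd 1 : Fin chevD4.rank) ∉ ({TD4.nd 2, TD4.nd 3} : Finset _) ∧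
      (TD4.nd 2 : Fin chevD4.rank) ∉ ({TD4.nd 3} : Finset _) := by decide +kernel
  have hne : (TD4.nd 0 : Fin chevD4.rank) ≠ TD4.nd 1 ∧ (TD4.nd 2 : Fin chevD4.rank) ≠ TD4.nd 1 ∧
      (TD4.nd 3 : Fin chevD4.rank) ≠ TD4.nd 1 ∧ (TD4.nd 2 : Fin chevD4.rank) ≠ TD4.nd 0 ∧
      (TD4.nd 3 : Fin chevD4.rank) ≠ TD4.nd 0 ∧ (TD4.nd 3 : Fin chevD4.rank) ≠ TD4.nd 2 := by decide +kernel
  obtain ⟨d1, d2, d3, d4, d5, d6⟩ := hne
  rw [hu, Finset.prod_insert hd.1, Finset.prod_insert hd.2.1, Finset.prod_insert hd.2.2,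
    Finset.prod_singleton, e0, e1, e2, e3]
  simp [TD4.par, d1, d2, d3, d4, d5, d6]
  ring

include hθ h3

theorem mem_iff {g : GL chevD4.Idx K} : g ∈ twistedD4 K q ↔ g ∈ (TD4.twist θ).Fix := by
  rw [(TD4.twGp θ hθ h3).eq_Fix]

theorem fixed_tor {a b : Kˣ} (ha : θ (a : K) = a) : TD4.C.G.torθ (TD4.par θ a b) ∈ twistedD4 K q :=
  (mem_iff θ hθ h3).2 ((TD4.twist θ).torθ_mem_Fix (TD4.par_fixed θ h3 ha)).1

/-- the representative interchanging the two long simple roots -/
theorem flip_mem :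
    TD4.C.G.nU (K := K) (TD4.nd 0) * TD4.C.G.nU (TD4.nd 2) * TD4.C.G.nU (TD4.nd 3) ∈ twistedD4 K q := by
  obtain ⟨n1, n2, n3, n4⟩ := TD4.negr_rt
  obtain ⟨o1, o2, o3⟩ := TD4.orth_135
  obtain ⟨s0, -, s2, s3⟩ := TD4.simp_rt
  have hnU : ∀ i, (TD4.C.G.nU i : GL chevD4.Idx K) = TD4.C.G.nE (TD4.C.G.simp' i) 1 := fun i => by
    simp [Good.nU, Good.nE]
  rw [hnU, hnU, hnU, s0, s2, s3, TD4.C.nE_triple o1 o2 o3, n1, n2, n3, inv_one]
  have h1 := (TD4.triple_mem θ hθ).1 (1 : K)
  have h2 := (TD4.triple_mem θ hθ).2 (-1 : K)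
  simp only [TD4.x3, map_neg, map_one] at h1 h2
  exact mul_mem (mul_mem h1 h2) h1

omit hθ h3

theorem conj_step (i : Fin chevD4.rank) {r s : ℕ} (hr : r < chevD4.nroots) (hs : chevD4.reflectRoot i.val r = s)
    {t : K} (ht : θ t = t) : ∃ t', θ t' = t' ∧ MulAut.conj (TD4.C.G.nU i) (X r t) = X s t' := by
  have e : (TD4.C.G.w i ⟨r, hr⟩).val = s := (TD4.C.G.w_reflect i ⟨r, hr⟩).trans hs
  refine ⟨(TD4.C.G.eta i ⟨r, hr⟩ : K) * t, by rw [map_mul, map_intCast, ht], ?_⟩
  rw [MulAut.conj_apply, X_eq r hr, X_eq s (e ▸ (TD4.C.G.w i ⟨r, hr⟩).isLt), TD4.C.G.nU_xu,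
    mul_inv_cancel_right]
  congr 1
  exact Fin.ext e

theorem flip_conj {w : K} (hw : θ w = w) : ∃ w', θ w' = w' ∧
    MulAut.conj (TD4.C.G.nU (K := K) (TD4.nd 0) * TD4.C.G.nU (TD4.nd 2) * TD4.C.G.nU (TD4.nd 3)) (X 14 w) =
      X 22 w' := by
  obtain ⟨w1, h1, e1⟩ := conj_step θ (TD4.nd 3) (r := 14) (s := 15) (by decide +kernel) (by decide +kernel) hw
  obtain ⟨w2, h2, e2⟩ := conj_step θ (TD4.nd 2) (r := 15) (s := 17) (by decide +kernel) (by decide +kernel) h1
  obtain ⟨w3, h3', e3⟩ := conj_step θ (TD4.nd 0) (r := 17) (s := 22) (by decide +kernel) (by decide +kernel) h2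
  refine ⟨w3, h3', ?_⟩
  simp only [map_mul, MulAut.mul_apply]
  rw [e1, e2, e3]

variable [Fintype K]

open Classical in
/-- the six root subgroups in the twisted group -/
theorem exists_six (hθ : ∀ x, θ x = x ^ q) (h3 : ∀ t : K, θ (θ (θ t)) = t) (nonfix : ∃ x, θ x ≠ x) :
    ∃ S : TD4Six.Six ↥(twistedD4 K q) K θ,
      (∀ r, (S.B r : GL chevD4.Idx K) = rootB θ r) ∧ (∀ c, (S.C c : GL chevD4.Idx K) = rootC θ c) ∧
      (∀ d, (S.D d : GL chevD4.Idx K) = rootD θ d) ∧ (∀ w, θ w = w → (S.A w : GL chevD4.Idx K) = X 14 w) ∧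
      (∀ w, θ w = w → (S.E w : GL chevD4.Idx K) = X 22 w) ∧
      ∀ w, θ w = w → (S.F w : GL chevD4.Idx K) = X 23 w := by
  obtain ⟨t₀, ht₀⟩ := TD4Six.exists_tr_of h3 nonfix (w := (1 : K)) (map_one θ)
  let π : K → K := fun w => TD4Six.tr θ (t₀ * w)
  have πfix : ∀ w, θ (π w) = π w := fun w => by simp only [π, TD4Six.tr, map_add, h3]; ring
  have πid : ∀ w, θ w = w → π w = w := fun w hw => by
    simp only [π, TD4Six.tr, map_mul, hw] at ht₀ ⊢
    linear_combination w * ht₀
  have πadd : ∀ x y, π (x + y) = π x + π y := fun x y => by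
    simp only [π, TD4Six.tr, mul_add, map_add]; ring
  have mem : ∀ {g : GL chevD4.Idx K}, g ∈ (TD4.twist θ).Fix → g ∈ twistedD4 K q := (mem_iff θ hθ h3).2
  have fB : ∀ r, rootB θ r ∈ twistedD4 K q := fun r => mem (rootB_fix θ h3 r)
  have fC : ∀ r, rootC θ r ∈ twistedD4 K q := fun r => mem (rootC_fix θ h3 r)
  have fD : ∀ r, rootD θ r ∈ twistedD4 K q := fun r => mem (rootD_fix θ h3 r)
  have fA : ∀ w, X 14 (π w) ∈ twistedD4 K q := fun w => mem (fix_single θ (by norm_num) (by simp) (πfix w))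
  have fE : ∀ w, X 22 (π w) ∈ twistedD4 K q := fun w => mem (fix_single θ (by norm_num) (by simp) (πfix w))
  have fF : ∀ w, X 23 (π w) ∈ twistedD4 K q := fun w => mem (fix_single θ (by norm_num) (by simp) (πfix w))
  have cm : ∀ {x y : ↥(twistedD4 K q)}, Commute (x : GL chevD4.Idx K) y → Commute x y := fun h => Subtype.ext h.eq
  let T : Kˣ → Kˣ → ↥(twistedD4 K q) := fun a b =>
    if ha : θ (a : K) = a then ⟨_, fixed_tor θ hθ h3 (a := a) (b := b) ha⟩ else 1
  have hT : ∀ a b : Kˣ, θ (a : K) = a → (T a b : GL chevD4.Idx K) = TD4.C.G.torθ (TD4.par θ a b) :=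
    fun a b ha => by simp only [T, dif_pos ha]
  have πscale : ∀ (k w : K), θ k = k → θ w = w → π (k * w) = k * w := fun k w hk hw =>
    πid _ (by rw [map_mul, hk, hw])
  refine ⟨
    { A := fun w => ⟨_, fA w⟩
      B := fun r => ⟨_, fB r⟩
      C := fun r => ⟨_, fC r⟩
      D := fun r => ⟨_, fD r⟩
      E := fun w => ⟨_, fE w⟩
      F := fun w => ⟨_, fF w⟩
      h3 := h3
      nonfix := nonfix
      addA := fun x y => Subtype.ext (by show X 14 (π (x + y)) = X 14 (π x) * X 14 (π y); rw [merge_last, πadd])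
      addE := fun x y => Subtype.ext (by show X 22 (π (x + y)) = X 22 (π x) * X 22 (π y); rw [merge_last, πadd])
      addF := fun x y => Subtype.ext (by show X 23 (π (x + y)) = X 23 (π x) * X 23 (π y); rw [merge_last, πadd])
      addB := fun x y => Subtype.ext (TD4Rel.addB θ x y)
      addC := fun x y => Subtype.ext (TD4Rel.addC θ x y)
      addD := fun x y => Subtype.ext (TD4Rel.addD θ x y)
      cAC := fun x y _ => cm (TD4Rel.cAC θ (π x) y)
      cAD := fun x y _ => cm (TD4Rel.cAD θ (π x) y)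
      cAF := fun x y _ _ => cm (TD4Rel.cAF (π x) (π y))
      cBE := fun x y _ => cm (TD4Rel.cBE θ x (π y))
      cBF := fun x y _ => cm (TD4Rel.cBF θ x (π y))
      cCE := fun x y _ => cm (TD4Rel.cCE θ x (π y))
      cCF := fun x y _ => cm (TD4Rel.cCF θ x (π y))
      cDE := fun x y _ => cm (TD4Rel.cDE θ x (π y))
      cDF := fun x y _ => cm (TD4Rel.cDF θ x (π y))
      cEF := fun x y _ _ => cm (TD4Rel.cEF (π x) (π y))
      rAB := fun w r hw => by
        have hN : θ (r * θ r * θ (θ r)) = r * θ r * θ (θ r) := by simp only [map_mul, h3]; ring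
        refine ⟨w * (r * θ r), w * (r * θ r * θ (θ r)), -(w * w * (r * θ r * θ (θ r))),
          by rw [map_mul, hN, hw], by rw [map_neg, map_mul, map_mul, hN, hw], Subtype.ext ?_⟩
        show ⁅X 14 (π w), rootB θ r⁆ = rootC θ (w * r) * rootD θ _ * X 22 (π _) * X 23 (π _)
        rw [πid w hw, πid _ (by rw [map_mul, hN, hw]), πid _ (by rw [map_neg, map_mul, map_mul, hN, hw]),
          TD4Rel.rAB θ h3 w r hw]
      rBC := fun r s => by
        refine ⟨θ r * θ (θ r) * s + θ (θ r) * r * θ s + r * θ r * θ (θ s),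
          r * θ s * θ (θ s) + θ r * θ (θ s) * s + θ (θ r) * s * θ s,
          by simp only [map_add, map_mul, h3]; ring, by simp only [map_add, map_mul, h3]; ring, Subtype.ext ?_⟩
        show ⁅rootB θ r, rootC θ s⁆ = rootD θ _ * X 22 (π _) * X 23 (π _)
        rw [πid _ (by simp only [map_add, map_mul, h3]; ring), πid _ (by simp only [map_add, map_mul, h3]; ring),
          TD4Rel.rBC θ h3 r s]
        rfl
      rBD := fun r d => Subtype.ext (by
        show ⁅rootB θ r, rootD θ d⁆ = X 22 (π (TD4Six.tr θ (r * θ d)))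
        rw [TD4Rel.rBD θ r d h3, πid _ (by simp only [TD4Six.tr, map_add, h3]; ring)]
        rfl)
      rCD := fun c d => Subtype.ext (by
        show ⁅rootC θ c, rootD θ d⁆ = X 23 (π (TD4Six.tr θ (c * θ d)))
        rw [TD4Rel.rCD θ c d h3, πid _ (by simp only [TD4Six.tr, map_add, h3]; ring)]
        rfl)
      rAE := fun w e hw he => Subtype.ext (by
        show ⁅X 14 (π w), X 22 (π e)⁆ = X 23 (π (w * e))
        rw [πid w hw, πid e he, πscale w e hw he, TD4Rel.rAE])
      T := T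
      T_comm := fun a b a' b' ha ha' => cm (by
        rw [hT a b ha, hT a' b' ha']
        exact ((Commute.all _ _).map (TD4.C.G.torθ (K := K))))
      T_ord := fun a b => by
        refine ⟨Nat.card Kˣ, ?_, ?_⟩
        · have := ringChar.charP K
          have : NeZero (ringChar K) := ⟨(CharP.char_is_prime K (ringChar K)).ne_zero⟩
          intro hd
          have h1 : ringChar K ∣ Fintype.card K := (ringChar.spec K _).1 (FiniteField.cast_card_eq_zero K)
          rw [Nat.card_units, Nat.card_eq_fintype_card] at hd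
          have h2 := Nat.dvd_sub h1 hd
          rw [Nat.sub_sub_self (Nat.one_le_iff_ne_zero.2 Fintype.card_ne_zero)] at h2
          exact (CharP.char_is_prime K (ringChar K)).ne_one (Nat.dvd_one.1 h2)
        · by_cases ha : θ (a : K) = a
          · refine Subtype.ext ?_
            rw [Subgroup.coe_pow, hT a b ha, ← map_pow, Subgroup.coe_one]
            convert map_one (TD4.C.G.torθ (K := K))
            funext i
            exact pow_card_eq_one'
          · simp only [T, dif_neg ha, one_pow]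
      tA := fun a b ha w hw => Subtype.ext (by
        have hN : θ ((b : K) * θ b * θ (θ b)) = (b : K) * θ b * θ (θ b) := by simp only [map_mul, h3]; ring
        simp only [Subgroup.coe_mul, Subgroup.coe_inv, hT a b ha]
        rw [πid w hw, πscale _ w (by rw [map_div₀, map_pow, ha, hN]) hw,
          tor_X θ (by decide +kernel) (-1) 2 (-1) (-1) (by decide +kernel)]
        congr 1
        simp [zpow_two, sq]; field_simp; try simp)
      tB := fun a b ha r => Subtype.ext (by
        simp only [Subgroup.coe_mul, Subgroup.coe_inv, hT a b ha, rootB, map_mul, map_div₀, map_pow, ha]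
        rw [conj_mul', conj_mul', tor_X θ (by decide +kernel) 2 (-1) 0 0 (by decide +kernel),
          tor_X θ (by decide +kernel) 0 (-1) 2 0 (by decide +kernel),
          tor_X θ (by decide +kernel) 0 (-1) 0 2 (by decide +kernel)]
        congr 3 <;> (simp [zpow_two, sq]; field_simp; try simp))
      tC := fun a b ha r => Subtype.ext (by
        simp only [Subgroup.coe_mul, Subgroup.coe_inv, hT a b ha, rootC, map_mul, map_div₀, map_neg, ha, h3]
        rw [conj_mul', conj_mul', tor_X θ (by decide +kernel) 1 1 (-1) (-1) (by decide +kernel),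
          tor_X θ (by decide +kernel) (-1) 1 1 (-1) (by decide +kernel),
          tor_X θ (by decide +kernel) (-1) 1 (-1) 1 (by decide +kernel)]
        congr 3 <;> (simp; field_simp; try simp))
      tD := fun a b ha r => Subtype.ext (by
        simp only [Subgroup.coe_mul, Subgroup.coe_inv, hT a b ha, rootD, map_mul, map_div₀, map_neg, h3]
        rw [conj_mul', conj_mul', tor_X θ (by decide +kernel) 1 0 1 (-1) (by decide +kernel),
          tor_X θ (by decide +kernel) (-1) 0 1 1 (by decide +kernel),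
          tor_X θ (by decide +kernel) 1 0 (-1) 1 (by decide +kernel)]
        congr 3 <;> (simp; field_simp; try simp))
      tE := fun a b ha w hw => Subtype.ext (by
        have hN : θ ((b : K) * θ b * θ (θ b)) = (b : K) * θ b * θ (θ b) := by simp only [map_mul, h3]; ring
        simp only [Subgroup.coe_mul, Subgroup.coe_inv, hT a b ha]
        rw [πid w hw, πscale _ w (by rw [map_div₀, ha, hN]) hw,
          tor_X θ (by decide +kernel) 1 (-1) 1 1 (by decide +kernel)]
        congr 1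
        simp; field_simp; try simp)
      tF := fun a b ha w hw => Subtype.ext (by
        simp only [Subgroup.coe_mul, Subgroup.coe_inv, hT a b ha]
        rw [πid w hw, πscale _ w ha hw, tor_X θ (by decide +kernel) 0 1 0 0 (by decide +kernel)]
        simp)
      flip := by
        refine ⟨⟨_, flip_mem θ hθ h3⟩, fun w hw => ?_⟩
        obtain ⟨w', hw', e⟩ := flip_conj θ hw
        refine ⟨w', hw', Subtype.ext ?_⟩
        show _ * X 14 (π w) * _ = X 22 (π w')
        rw [πid w hw, πid w' hw']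
        exact e
      inj := fun c d e f he hf h => by
        have h1 : rootC θ c * rootD θ d * X 22 (π e) * X 23 (π f) = 1 := congrArg Subtype.val h
        rw [πid e he, πid f hf] at h1
        refine unique_CDEF θ (c' := 0) (d' := 0) (e' := 0) (f' := 0) (h1.trans ?_)
        simp [rootC, rootD, X_zero] },
    fun _ => rfl, fun _ => rfl, fun _ => rfl, fun w hw => ?_, fun w hw => ?_, fun w hw => ?_⟩
  · show X 14 (π w) = X 14 w; rw [πid w hw]
  · show X 22 (π w) = X 22 w; rw [πid w hw]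
  · show X 23 (π w) = X 23 w; rw [πid w hw]

end CfsgLib.Lie.Mult.TD4Data
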