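import Cfsg.Agent.Lib.Lie.Mult.TD4.Data

/-!
# The multiplier of `³D₄(q)` at the defining prime
-/

set_option autoImplicit false
set_option maxRecDepth 100000
set_option linter.unusedSimpArgs false

namespace CfsgLib.Lie.Mult.TD4Data

open Cfsg.Lie CfsgLib.Lie.Chev TD4Coord TD4Rel
open scoped MatrixGroups commutatorElement

variable {K : Type*} [Field K] [Fintype K] {q : ℕ}

theorem exists_nonfix (θ : K ≃+* K) (hθ : ∀ x, θ x = x ^ q) (hq : IsPrimePow q) (hK : Fintype.card K = q ^ 3) :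
    ∃ x, θ x ≠ x := by
  classical
  by_contra h
  push Not at h
  have e := Frob.card_fixed (K := K) hq hK
  rw [Nat.card_congr (Equiv.subtypeUnivEquiv fun x => (hθ x).symm.trans (h x)), Nat.card_eq_fintype_card, hK] at e
  have h2 := hq.two_le
  nlinarith [pow_succ q 2, Nat.mul_le_mul h2 h2]

omit [Fintype K] in
theorem mem_U {r : ℕ} (h1 : 12 ≤ r) (h2 : r < 24) (t : K) : X r t ∈ chevD4.posUnipotent K := by
  rw [X_eq r (rt_lt r h2)]
  exact TD4.C.G.xu_mem_U (pos_root r h2 h1) t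

theorem index_gens (θ : K ≃+* K) (hθ : ∀ x, θ x = x ^ q) (hq : IsPrimePow q) (hK : Fintype.card K = q ^ 3)
    (S : TD4Six.Six ↥(twistedD4 K q) K θ)
    (hB : ∀ r, (S.B r : GL chevD4.Idx K) = rootB θ r) (hC : ∀ c, (S.C c : GL chevD4.Idx K) = rootC θ c)
    (hD : ∀ d, (S.D d : GL chevD4.Idx K) = rootD θ d)
    (hA : ∀ w, θ w = w → (S.A w : GL chevD4.Idx K) = X 14 w)
    (hE : ∀ w, θ w = w → (S.E w : GL chevD4.Idx K) = X 22 w)
    (hF : ∀ w, θ w = w → (S.F w : GL chevD4.Idx K) = X 23 w) :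
    ¬ ringChar K ∣ (Subgroup.closure (TD4Six.gens S)).index := by
  classical
  set W := Subgroup.closure (TD4Six.gens S) with hW
  have hle : W ≤ (chevD4.posUnipotent K).subgroupOf (twistedD4 K q) := by
    rw [hW, Subgroup.closure_le]
    intro g hg
    show (g : GL chevD4.Idx K) ∈ chevD4.posUnipotent K
    rcases TD4Six.gens_cases S hg with ⟨r, rfl⟩ | ⟨r, rfl⟩ | ⟨r, rfl⟩ | ⟨w, hw, rfl⟩ | ⟨w, hw, rfl⟩ | ⟨w, hw, rfl⟩
    · rw [hB]
      exact mul_mem (mul_mem (mem_U (by norm_num) (by norm_num) _) (mem_U (by norm_num) (by norm_num) _))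
        (mem_U (by norm_num) (by norm_num) _)
    · rw [hC]
      exact mul_mem (mul_mem (mem_U (by norm_num) (by norm_num) _) (mem_U (by norm_num) (by norm_num) _))
        (mem_U (by norm_num) (by norm_num) _)
    · rw [hD]
      exact mul_mem (mul_mem (mem_U (by norm_num) (by norm_num) _) (mem_U (by norm_num) (by norm_num) _))
        (mem_U (by norm_num) (by norm_num) _)
    · rw [hA w hw]; exact mem_U (by norm_num) (by norm_num) _
    · rw [hE w hw]; exact mem_U (by norm_num) (by norm_num) _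
    · rw [hF w hw]; exact mem_U (by norm_num) (by norm_num) _
  obtain ⟨-, hU, hH, hcard, -⟩ := TD4.summary hq hK
  have hU' : Nat.card ↥((chevD4.posUnipotent K).subgroupOf (twistedD4 K q)) = q ^ 12 := by
    rw [← hU, ← Subgroup.inf_subgroupOf_right,
      Nat.card_congr (Subgroup.subgroupOfEquivOfLe (inf_le_right : chevD4.posUnipotent K ⊓ twistedD4 K q ≤ _)).toEquiv]
  let F0 := {w : K // θ w = w}
  have hF0 : Nat.card F0 = q := by
    rw [← Frob.card_fixed (K := K) hq hK]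
    exact Nat.card_congr (Equiv.subtypeEquivRight fun x => by rw [hθ])
  have hg : ∀ g, g ∈ TD4Six.gens S → g ∈ W := fun g h => Subgroup.subset_closure h
  let f : K × F0 × K × K × F0 × F0 → W := fun x =>
    ⟨S.B x.1 * S.A x.2.1.1 * S.C x.2.2.1 * S.D x.2.2.2.1 * S.E x.2.2.2.2.1.1 * S.F x.2.2.2.2.2.1,
      mul_mem (mul_mem (mul_mem (mul_mem (mul_mem (hg _ (Or.inl (Or.inl (Or.inl ⟨_, rfl⟩))))
        (hg _ (Or.inr (Or.inl ⟨_, x.2.1.2, rfl⟩)))) (hg _ (Or.inl (Or.inl (Or.inr ⟨_, rfl⟩)))))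
        (hg _ (Or.inl (Or.inr ⟨_, rfl⟩)))) (hg _ (Or.inr (Or.inr (Or.inl ⟨_, x.2.2.2.2.1.2, rfl⟩)))))
        (hg _ (Or.inr (Or.inr (Or.inr ⟨_, x.2.2.2.2.2.2, rfl⟩))))⟩
  have hf : Function.Injective f := by
    rintro ⟨r, ⟨w, hw⟩, c, d, ⟨e, he⟩, ⟨g, hg'⟩⟩ ⟨r', ⟨w', hw'⟩, c', d', ⟨e', he'⟩, ⟨g', hg''⟩⟩ h
    have h1 : ((f (r, ⟨w, hw⟩, c, d, ⟨e, he⟩, ⟨g, hg'⟩) : ↥(twistedD4 K q)) : GL chevD4.Idx K) =
        ((f (r', ⟨w', hw'⟩, c', d', ⟨e', he'⟩, ⟨g', hg''⟩) : ↥(twistedD4 K q)) : GL chevD4.Idx K) := by rw [h]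
    simp only [f, Subgroup.coe_mul, hB, hC, hD, hA w hw, hA w' hw', hE e he, hE e' he', hF g hg', hF g' hg''] at h1
    obtain ⟨rfl, rfl, rfl, rfl, rfl, rfl⟩ := unique_six θ h1
    rfl
  have hWcard : q ^ 12 ≤ Nat.card W := by
    have := Nat.card_le_card_of_injective f hf
    simp only [Nat.card_prod, hF0, Nat.card_eq_fintype_card (α := K), hK] at this
    refine le_trans (le_of_eq ?_) this
    ring
  have hWeq : Nat.card W = q ^ 12 :=
    le_antisymm (hU' ▸ Subgroup.card_le_of_le hle) hWcard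
  have hq0 : (q : ℕ) ^ 12 ≠ 0 := pow_ne_zero _ hq.pos.ne'
  have hidx : W.index = ((q - 1) * (q ^ 3 - 1)) *
      (1 + q + q ^ 3 + 2 * q ^ 4 + q ^ 5 + q ^ 7 + 2 * q ^ 8 + q ^ 9 + q ^ 11 + q ^ 12) := by
    have h1 := W.card_mul_index
    rw [hWeq, hcard, mul_assoc] at h1
    exact mul_left_cancel₀ hq0 h1
  have := ringChar.charP K
  have : Fact (ringChar K).Prime := ⟨CharP.char_is_prime K _⟩
  rw [hidx, ← ZMod.natCast_eq_zero_iff]
  have hdvd : ringChar K ∣ q := by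
    have h1 : ringChar K ∣ Fintype.card K := (ringChar.spec K _).1 (FiniteField.cast_card_eq_zero K)
    rw [hK] at h1
    exact (Fact.out : (ringChar K).Prime).dvd_of_dvd_pow h1
  have hz : (q : ZMod (ringChar K)) = 0 := (ZMod.natCast_eq_zero_iff _ _).2 hdvd
  push_cast [Nat.cast_sub hq.pos, Nat.cast_sub (Nat.one_le_pow 3 q hq.pos)]
  simp [hz]

/-- no multiplier at the defining prime -/
theorem not_dvd_char (hq : IsPrimePow q) (hK : Fintype.card K = q ^ 3) {Γ : Type*} [Group Γ] [Finite Γ]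
    {τ : Γ →* ↥(twistedD4 K q)} (hτ : Cfsg.IsStemExtension τ) : ¬ ringChar K ∣ Nat.card τ.ker := by
  classical
  obtain ⟨θ, hθ⟩ := Frob.exists_powEquiv (K := K) hq hK
  have h3 : ∀ t : K, θ (θ (θ t)) = t := TD4.h3_of θ hθ hK
  obtain ⟨S, hB, hC, hD, hA, hE, hF⟩ := exists_six θ hθ h3 (exists_nonfix θ hθ hq hK)
  have := ringChar.charP K
  have : Fact (ringChar K).Prime := ⟨CharP.char_is_prime K _⟩
  refine not_dvd_ker_of_preimage hτ _ (index_gens θ hθ hq hK S hB hC hD hA hE hF) fun z hz hz' _ => ?_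
  exact TD4Six.inter S hτ.1 hτ.2.1 (L := Function.surjInv hτ.1) (Function.surjInv_eq hτ.1) hz hz'

end CfsgLib.Lie.Mult.TD4Data
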