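import Cfsg.Agent.Lib.Lie.Mult.TD4.Rel

/-!
# The root subgroups lie in `³D₄` and have unique coordinates
-/

set_option autoImplicit false
set_option maxRecDepth 100000
set_option linter.unusedSimpArgs false

namespace CfsgLib.Lie.Mult.TD4Rel

open Cfsg.Lie CfsgLib.Lie.Chev TD4Coord
open scoped MatrixGroups

variable {K : Type*} [Field K] (θ : K ≃+* K)

theorem rt_lt : ∀ r : ℕ, r < 24 → r < chevD4.nroots := by decide +kernel

theorem tables : ∀ x ∈ ([(18, 13, false), (13, 12, false), (12, 18, false), (19, 16, true), (16, 15, false),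
    (15, 19, true), (21, 17, true), (17, 20, true), (20, 21, false), (14, 14, false), (22, 22, false),
    (23, 23, false)] : List (ℕ × ℕ × Bool)),
    graphD4.p.get x.1 = x.2.1 ∧ graphD4.eps.get x.1 = x.2.2 := by decide +kernel

theorem twist_eval {r s : ℕ} {b : Bool} (hr : r < chevD4.nroots) (hs : s < chevD4.nroots)
    (hd : graphD4.p.get r = s ∧ graphD4.eps.get r = b) (t : K) :
    TD4.C.G.xu ((TD4.twist θ).p ⟨r, hr⟩) ((TD4.twist θ).eps ⟨r, hr⟩ * (TD4.twist θ).σ ⟨r, hr⟩ t) =
      X s (cond b (-θ t) (θ t)) := by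
  rw [TD4.σ_eq, TD4.p_eq θ (r := ⟨r, hr⟩) (s := ⟨s, hs⟩) hd.1, X_eq s hs]
  congr 1
  show (sgnB (graphD4.eps.get r) : K) * θ t = _
  rw [hd.2]
  cases b <;> simp [sgnB]

theorem fix_triple (h3 : ∀ t : K, θ (θ (θ t)) = t) {a b c : ℕ} {ea eb ec : Bool} (ha : a < 24) (hb : b < 24)
    (hc : c < 24) (ma : (a, b, ea) ∈ ([(18, 13, false), (13, 12, false), (12, 18, false), (19, 16, true),
      (16, 15, false), (15, 19, true), (21, 17, true), (17, 20, true), (20, 21, false), (14, 14, false),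
      (22, 22, false), (23, 23, false)] : List (ℕ × ℕ × Bool)))
    (mb : (b, c, eb) ∈ ([(18, 13, false), (13, 12, false), (12, 18, false), (19, 16, true),
      (16, 15, false), (15, 19, true), (21, 17, true), (17, 20, true), (20, 21, false), (14, 14, false),
      (22, 22, false), (23, 23, false)] : List (ℕ × ℕ × Bool)))
    (mc : (c, a, ec) ∈ ([(18, 13, false), (13, 12, false), (12, 18, false), (19, 16, true),
      (16, 15, false), (15, 19, true), (21, 17, true), (17, 20, true), (20, 21, false), (14, 14, false),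
      (22, 22, false), (23, 23, false)] : List (ℕ × ℕ × Bool)))
    (hcomm : ∀ t u v : K, X a t * X b u * X c v = X b u * X c v * X a t) {t u v : K}
    (e1 : cond ea (-θ t) (θ t) = u) (e2 : cond eb (-θ u) (θ u) = v) (e3 : cond ec (-θ v) (θ v) = t) :
    X a t * X b u * X c v ∈ (TD4.twist θ).Fix := by
  have h := (TD4.twist θ).mem_Fix_list [(⟨a, rt_lt a ha⟩, t), (⟨b, rt_lt b hb⟩, u), (⟨c, rt_lt c hc⟩, v)] (by
    simp only [List.map_cons, List.map_nil, List.prod_cons, List.prod_nil, mul_one]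
    rw [twist_eval θ _ (rt_lt b hb) (tables _ ma), twist_eval θ _ (rt_lt c hc) (tables _ mb),
      twist_eval θ _ (rt_lt a ha) (tables _ mc), e1, e2, e3,
      ← X_eq a (rt_lt a ha), ← X_eq b (rt_lt b hb), ← X_eq c (rt_lt c hc)]
    rw [← mul_assoc, ← mul_assoc, hcomm])
  simpa only [List.map_cons, List.map_nil, List.prod_cons, List.prod_nil, mul_one,
    ← X_eq a (rt_lt a ha), ← X_eq b (rt_lt b hb), ← X_eq c (rt_lt c hc), ← mul_assoc] using h

theorem fix_single {r : ℕ} (hr : r < 24) (hm : (r, r, false) ∈ ([(14, 14, false), (22, 22, false),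
    (23, 23, false)] : List (ℕ × ℕ × Bool))) {t : K} (ht : θ t = t) : X r t ∈ (TD4.twist θ).Fix := by
  have h := (TD4.twist θ).mem_Fix_list [(⟨r, rt_lt r hr⟩, t)] (by
    simp only [List.map_cons, List.map_nil, List.prod_cons, List.prod_nil, mul_one]
    rw [twist_eval θ _ (rt_lt r hr) (tables (r, r, false) (by simp at hm ⊢; omega)), Bool.cond_false, ht,
      ← X_eq r (rt_lt r hr)])
  simpa only [List.map_cons, List.map_nil, List.prod_cons, List.prod_nil, mul_one,
    ← X_eq r (rt_lt r hr)] using h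

variable (h3 : ∀ t : K, θ (θ (θ t)) = t)
include h3

theorem rootB_fix (r : K) : rootB θ r ∈ (TD4.twist θ).Fix := by
  refine fix_triple θ h3 (a := 18) (b := 13) (c := 12) (ea := false) (eb := false) (ec := false) (by norm_num)
    (by norm_num) (by norm_num) (by simp) (by simp) (by simp) (fun t u v => ?_) rfl rfl (h3 r)
  refine mul_right_cancel (b := (1 : GL chevD4.Idx K)) ?_
  simp only [mul_assoc, sw_12_18, sw_13_18]

theorem rootC_fix (c : K) : rootC θ c ∈ (TD4.twist θ).Fix := by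
  refine fix_triple θ h3 (a := 19) (b := 16) (c := 15) (ea := true) (eb := false) (ec := true) (by norm_num)
    (by norm_num) (by norm_num) (by simp) (by simp) (by simp) (fun t u v => ?_) rfl ?_ ?_
  · refine mul_right_cancel (b := (1 : GL chevD4.Idx K)) ?_
    simp only [mul_assoc, sw_15_19, sw_16_19]
  · simp
  · simp [h3]

theorem rootD_fix (d : K) : rootD θ d ∈ (TD4.twist θ).Fix := by
  refine fix_triple θ h3 (a := 21) (b := 17) (c := 20) (ea := true) (eb := true) (ec := false) (by norm_num)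
    (by norm_num) (by norm_num) (by simp) (by simp) (by simp) (fun t u v => ?_) rfl ?_ ?_
  · refine mul_right_cancel (b := (1 : GL chevD4.Idx K)) ?_
    simp only [mul_assoc, sw_17_21, sw_20_21]
  · simp
  · simp [h3]

omit h3

theorem uge {m r : ℕ} (h1 : m ≤ r) (h2 : 12 ≤ r) (h4 : r < 24) (t : K) : X r t ∈ TD4.C.G.Uge (K := K) m := by
  rw [X_eq r (rt_lt r h4)]
  exact TD4.C.G.xu_mem_Uge (r := ⟨r, rt_lt r h4⟩) h1 (pos_root r h4 h2) t

theorem lowest {r : ℕ} (h2 : 12 ≤ r) (h4 : r < 24) {t t' : K} {v v' : GL chevD4.Idx K}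
    (hv : v ∈ TD4.C.G.Uge (K := K) (r + 1)) (hv' : v' ∈ TD4.C.G.Uge (K := K) (r + 1))
    (h : X r t * v = X r t' * v') : t = t' ∧ v = v' := by
  rw [X_eq r (rt_lt r h4), X_eq r (rt_lt r h4)] at h
  exact TD4.C.G.lowest_unique (r := ⟨r, rt_lt r h4⟩) (pos_root r h4 h2) hv hv' h

theorem sorted_B (r : K) : rootB θ r = X 12 (θ (θ r)) * (X 13 (θ r) * X 18 r) := by
  refine mul_right_cancel (b := (1 : GL chevD4.Idx K)) ?_
  simp only [rootB, mul_assoc, sw_12_13, sw_12_18, sw_13_18]

theorem sorted_C (c : K) : rootC θ c = X 15 (-θ (θ c)) * (X 16 (-θ c) * X 19 c) := by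
  refine mul_right_cancel (b := (1 : GL chevD4.Idx K)) ?_
  simp only [rootC, mul_assoc, sw_15_16, sw_15_19, sw_16_19]

theorem sorted_D (d : K) : rootD θ d = X 17 (-θ d) * (X 20 (θ (θ d)) * X 21 d) := by
  refine mul_right_cancel (b := (1 : GL chevD4.Idx K)) ?_
  simp only [rootD, mul_assoc, sw_17_20, sw_17_21, sw_20_21]

theorem unique_DEF {d e f d' e' f' : K}
    (h : rootD θ d * X 22 e * X 23 f = rootD θ d' * X 22 e' * X 23 f') : d = d' ∧ e = e' ∧ f = f' := by
  have h1 := h
  simp only [sorted_D, mul_assoc] at h1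
  obtain ⟨a, -⟩ := lowest (r := 17) (by norm_num) (by norm_num)
    (mul_mem (uge (by norm_num) (by norm_num) (by norm_num) _) (mul_mem (uge (by norm_num) (by norm_num)
      (by norm_num) _) (mul_mem (uge (by norm_num) (by norm_num) (by norm_num) _)
      (uge (by norm_num) (by norm_num) (by norm_num) _))))
    (mul_mem (uge (by norm_num) (by norm_num) (by norm_num) _) (mul_mem (uge (by norm_num) (by norm_num)
      (by norm_num) _) (mul_mem (uge (by norm_num) (by norm_num) (by norm_num) _)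
      (uge (by norm_num) (by norm_num) (by norm_num) _)))) h1
  obtain rfl : d = d' := θ.injective (neg_injective a)
  rw [mul_assoc, mul_assoc] at h
  obtain ⟨he, hf⟩ := lowest (r := 22) (by norm_num) (by norm_num) (uge (by norm_num) (by norm_num) (by norm_num) _)
    (uge (by norm_num) (by norm_num) (by norm_num) _) (mul_left_cancel h)
  refine ⟨rfl, he, ?_⟩
  rw [X_eq 23 (rt_lt 23 (by norm_num)), X_eq 23 (rt_lt 23 (by norm_num))] at hf
  exact TD4.C.G.xu_injective _ hf

theorem unique_CDEF {c d e f c' d' e' f' : K}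
    (h : rootC θ c * rootD θ d * X 22 e * X 23 f = rootC θ c' * rootD θ d' * X 22 e' * X 23 f') :
    c = c' ∧ d = d' ∧ e = e' ∧ f = f' := by
  have h1 := h
  simp only [sorted_C, sorted_D, mul_assoc] at h1
  have hm : ∀ a b c₁ c₂ c₃ u v : K, X 16 a * (X 19 b * (X 17 c₁ * (X 20 c₂ * (X 21 c₃ * (X 22 u * X 23 v))))) ∈
      TD4.C.G.Uge (K := K) 16 := by
    intros
    repeat' apply mul_mem
    all_goals exact uge (by norm_num) (by norm_num) (by norm_num) _
  obtain ⟨a, -⟩ := lowest (r := 15) (by norm_num) (by norm_num) (hm _ _ _ _ _ _ _) (hm _ _ _ _ _ _ _) h1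
  obtain rfl : c = c' := θ.injective (θ.injective (neg_injective a))
  refine ⟨rfl, unique_DEF θ ?_⟩
  simp only [mul_assoc] at h ⊢
  exact mul_left_cancel h

/-- uniqueness of the six coordinates -/
theorem unique_six {r w c d e f r' w' c' d' e' f' : K}
    (h : rootB θ r * X 14 w * rootC θ c * rootD θ d * X 22 e * X 23 f =
      rootB θ r' * X 14 w' * rootC θ c' * rootD θ d' * X 22 e' * X 23 f') :
    r = r' ∧ w = w' ∧ c = c' ∧ d = d' ∧ e = e' ∧ f = f' := by
  have h1 := h
  simp only [sorted_B, sorted_C, sorted_D, mul_assoc] at h1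
  have hm : ∀ a b w c₁ c₂ c₃ d₁ d₂ d₃ u v : K, X 13 a * (X 18 b * (X 14 w * (X 15 c₁ * (X 16 c₂ * (X 19 c₃ *
      (X 17 d₁ * (X 20 d₂ * (X 21 d₃ * (X 22 u * X 23 v))))))))) ∈ TD4.C.G.Uge (K := K) 13 := by
    intros
    repeat' apply mul_mem
    all_goals exact uge (by norm_num) (by norm_num) (by norm_num) _
  obtain ⟨a, -⟩ := lowest (r := 12) (by norm_num) (by norm_num) (hm _ _ _ _ _ _ _ _ _ _ _)
    (hm _ _ _ _ _ _ _ _ _ _ _) h1
  obtain rfl : r = r' := θ.injective (θ.injective a)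
  simp only [mul_assoc] at h
  have h2 := mul_left_cancel h
  simp only [sorted_C, sorted_D, mul_assoc] at h2
  have hm2 : ∀ c₁ c₂ c₃ d₁ d₂ d₃ u v : K, X 15 c₁ * (X 16 c₂ * (X 19 c₃ *
      (X 17 d₁ * (X 20 d₂ * (X 21 d₃ * (X 22 u * X 23 v)))))) ∈ TD4.C.G.Uge (K := K) 15 := by
    intros
    repeat' apply mul_mem
    all_goals exact uge (by norm_num) (by norm_num) (by norm_num) _
  obtain ⟨b, -⟩ := lowest (r := 14) (by norm_num) (by norm_num) (hm2 _ _ _ _ _ _ _ _) (hm2 _ _ _ _ _ _ _ _) h2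
  subst b
  refine ⟨rfl, rfl, unique_CDEF θ ?_⟩
  simp only [mul_assoc]
  exact mul_left_cancel (mul_left_cancel h)

end CfsgLib.Lie.Mult.TD4Rel
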