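import Cfsg.Agent.Lib.Lie.Mult.TwSL2
import Cfsg.Agent.Lib.Lie.Mult.TD4.Defining
import Cfsg.Agent.Lib.Lie.Chev.Tw.Sub.RootClosed
import Cfsg.Agent.Lib.Lie.Chev.Tw.D4Simple

/-!
# The multiplier of `³D₄(q)` away from the defining prime
-/

set_option autoImplicit false
set_option maxRecDepth 100000
set_option linter.unusedSectionVars false
set_option linter.unusedSimpArgs false

namespace CfsgLib.Lie.Mult.TD4Prime

open Cfsg.Lie CfsgLib.Lie.Chev TwEngine
open scoped MatrixGroups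
open CfsgLib.Lie.SL2Rel

variable {K : Type*} [Field K] (θ : K ≃+* K) {q : ℕ}

theorem words : ∀ k : Fin orbGraphD4.no,
    orbGraphD4.wl chevD4 k = if k.val = 0 then [TD4.nd 1] else [TD4.nd 0, TD4.nd 2, TD4.nd 3] := by decide +kernel

theorem hno : 2 = orbGraphD4.no := by decide +kernel

/-- the Coxeter matrix on the orbits -/
noncomputable def M : CoxeterMatrix (Fin orbGraphD4.no) := CoxeterMatrix.G₂.reindex (finCongr hno)

theorem list_val (l : List (Fin orbGraphD4.no)) (r : Fin chevD4.nroots) :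
    ((l.map (TD4.orbits θ).wO).prod r).val =
      l.foldr (fun k x => digit (orbGraphD4.tab.get k.val) x) r.val := by
  induction l with
  | nil => rfl
  | cons k l ih => rw [List.map_cons, List.prod_cons, Equiv.Perm.mul_apply, TD4.wO_val, ih]; rfl

/-- the table of a word in the orbit elements -/
noncomputable def run (l : List (Fin orbGraphD4.no)) (r : ℕ) : ℕ :=
  l.foldr (fun k x => digit (orbGraphD4.tab.get k.val) x) r

theorem braid_tab : ∀ i j : Fin orbGraphD4.no, i = j ∨ ∀ r < chevD4.nroots,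
    run (altL j i (M i j - 1) ++ [if Even (M i j) then i else j]) r = run (i :: altL j i (M i j - 1)) r ∧
      (chevD4.IsPosRoot r → ¬ chevD4.IsPosRoot (run [if Even (M i j) then i else j] r) →
        chevD4.IsPosRoot (run (altL j i (M i j - 1)) r) ∧
          ¬ chevD4.IsPosRoot (run (i :: altL j i (M i j - 1)) r)) := by
  decide +kernel

theorem braid_ok : BraidOK (TD4.orbits θ) M := by
  intro i j hij hm
  refine ⟨Equiv.ext fun r => Fin.ext ?_, fun r hr hn => ?_⟩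
  · have h := (((braid_tab i j).resolve_left hij) r.val r.isLt).1
    simp only [run] at h
    rw [← list_val θ, ← list_val θ, List.map_append, List.prod_append] at h
    simpa using h
  · have h := (((braid_tab i j).resolve_left hij) r.val r.isLt).2 hr
    simp only [run] at h
    rw [← list_val θ, ← list_val θ, ← list_val θ] at h
    simpa [Equiv.Perm.mul_apply] using h (by simpa using hn)

theorem coxeter_tab : ∀ i j : Fin orbGraphD4.no, ∀ r < chevD4.nroots,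
    tabPow (orbGraphD4.tab.get i.val) (orbGraphD4.tab.get j.val) (M i j) r = r := by decide +kernel

theorem faith (l : List (Fin orbGraphD4.no)) (hl : (l.map (TD4.orbits θ).wO).prod = 1) :
    (l.map M.simple).prod = 1 := by
  have hcard : Nat.card M.Group = 12 := by
    obtain ⟨ψ, -⟩ := exists_equivG2 goodG2
    rw [M, Nat.card_congr (CoxeterMatrix.reindexGroupEquiv _ _).toEquiv, Nat.card_congr ψ.toEquiv, cardWgG2]
  exact faith_of (O := TD4.orbits θ) M id Function.surjective_id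
    (fun i j => (TD4.orbits θ).pow_eq_one_of_tab (fun o => orbGraphD4.tab.get o.val) (TD4.wO_val θ) _ _ _
      (coxeter_tab i j))
    (by rw [hcard]; norm_num)
    (by rw [(TD4.orbits θ).card_Wp (TD4.wO_val θ) chkEnum_graphD4, hcard]; rfl) l hl

/-- the fixed field -/
noncomputable abbrev F0 : Subfield K := θ.toRingHom.eqLocusField (RingHom.id K)

/-- the long root group -/
noncomputable def f0 : SL(2, ↥(F0 θ)) →* GL chevD4.Idx K :=
  ((TD4.C.G.sl2Fam (K := K) (TD4.rt 14)).hom (TD4.C.G.sl2Fam_mult (TD4.rt 14))).comp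
    (Matrix.SpecialLinearGroup.map (F0 θ).subtype)

/-- the group of three short roots -/
noncomputable def f1 : SL(2, K) →* GL chevD4.Idx K :=
  TwSub.tripleHom TD4.C θ TD4.orth_135.1 TD4.orth_135.2.1 TD4.orth_135.2.2

theorem map_upper (t : ↥(F0 θ)) :
    Matrix.SpecialLinearGroup.map (F0 θ).subtype (Fam.upper t) = Fam.upper (t : K) := by
  refine Subtype.ext ?_
  show (Fam.upper t).1.map (F0 θ).subtype = (Fam.upper (t : K)).1
  ext i j
  fin_cases i <;> fin_cases j <;> simp [Fam.upper]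

theorem map_lower (t : ↥(F0 θ)) :
    Matrix.SpecialLinearGroup.map (F0 θ).subtype (Fam.lower t) = Fam.lower (t : K) := by
  refine Subtype.ext ?_
  show (Fam.lower t).1.map (F0 θ).subtype = (Fam.lower (t : K)).1
  ext i j
  fin_cases i <;> fin_cases j <;> simp [Fam.lower]

theorem f0_upper (t : ↥(F0 θ)) : f0 θ (Fam.upper t) = TD4.C.G.xu (TD4.rt 14) (t : K) := by
  rw [f0, MonoidHom.comp_apply, map_upper]
  exact Fam.hom_upper _ _ _

theorem f0_lower (t : ↥(F0 θ)) : f0 θ (Fam.lower t) = TD4.C.G.xu (TD4.rt 9) (t : K) := by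
  rw [f0, MonoidHom.comp_apply, map_lower, ← TD4.negr_rt.2.2.2]
  exact Fam.hom_lower _ _ _

theorem f0_wF (c : ↥(F0 θ)) : f0 θ (TwEngine.wF c) = TD4.C.G.nE (TD4.rt 14) (c : K) := by
  simp only [TwEngine.wF, map_mul, f0_upper, f0_lower, Good.nE, TD4.negr_rt.2.2.2]
  push_cast
  rfl

theorem f1_upper (t : K) : f1 θ (Fam.upper t) = TD4.x3 θ (TD4.rt 18) (TD4.rt 13) (TD4.rt 12) t := by
  rw [f1, TwSub.tripleHom_upper]; rfl

theorem f1_lower (t : K) : f1 θ (Fam.lower t) = TD4.x3 θ (TD4.rt 5) (TD4.rt 10) (TD4.rt 11) t := by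
  rw [f1, TwSub.tripleHom_lower, TD4.negr_rt.1, TD4.negr_rt.2.1, TD4.negr_rt.2.2.1]; rfl

theorem f1_wF (c : K) : f1 θ (TwEngine.wF c) =
    TD4.C.G.nE (TD4.rt 18) c * TD4.C.G.nE (TD4.rt 13) (θ c) * TD4.C.G.nE (TD4.rt 12) (θ (θ c)) := by
  simp only [TwEngine.wF, map_mul, f1_upper, f1_lower, TD4.x3, map_neg, map_inv₀]
  rw [TD4.C.nE_triple TD4.orth_135.1 TD4.orth_135.2.1 TD4.orth_135.2.2, TD4.negr_rt.1, TD4.negr_rt.2.1,
    TD4.negr_rt.2.2.1]

theorem f0_dg (a : (↥(F0 θ))ˣ) : f0 θ (SLUniv.dg a) =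
    TD4.C.G.torθ (TD4.par θ (Units.map (F0 θ).subtype.toMonoidHom a) 1) := by
  rw [dg_eq, map_mul, f0_wF, f0_wF, TD4.hd_par, map_one, map_one]
  simp only [map_one, mul_one]
  rw [TD4.C.hd_eq]
  simp

theorem f1_dg (a : Kˣ) : f1 θ (SLUniv.dg a) = TD4.C.G.torθ (TD4.par θ 1 a) := by
  rw [dg_eq, map_mul, f1_wF, f1_wF, TD4.hd_par, map_one, one_mul,
    TD4.C.hd_triple TD4.orth_135.1 TD4.orth_135.2.1 TD4.orth_135.2.2]
  simp

variable (hθ : ∀ x, θ x = x ^ q) (h3 : ∀ t : K, θ (θ (θ t)) = t)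
include hθ h3

theorem f0_mem (x : SL(2, ↥(F0 θ))) : f0 θ x ∈ twistedD4 K q := by
  refine Fam.mem_gens (P := fun x => f0 θ x ∈ twistedD4 K q)
    (fun a b ha hb => by rw [map_mul]; exact mul_mem ha hb) (fun t => ?_) ?_ x
  · rw [f0_upper]; exact (TD4.single_mem θ hθ t.2).1
  · rw [TwSub.wel_eq]
    simp only [map_mul, f0_upper, f0_lower]
    exact mul_mem (mul_mem (TD4.single_mem θ hθ (Subtype.prop (1 : ↥(F0 θ)))).2
      (TD4.single_mem θ hθ (Subtype.prop (-1 : ↥(F0 θ)))).1) (TD4.single_mem θ hθ (Subtype.prop (1 : ↥(F0 θ)))).2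

theorem f1_mem (x : SL(2, K)) : f1 θ x ∈ twistedD4 K q := by
  refine Fam.mem_gens (P := fun x => f1 θ x ∈ twistedD4 K q)
    (fun a b ha hb => by rw [map_mul]; exact mul_mem ha hb) (fun t => ?_) ?_ x
  · rw [f1_upper]; exact (TD4.triple_mem θ hθ).1 t
  · rw [TwSub.wel_eq]
    simp only [map_mul, f1_upper, f1_lower]
    exact mul_mem (mul_mem ((TD4.triple_mem θ hθ).2 1) ((TD4.triple_mem θ hθ).1 (-1))) ((TD4.triple_mem θ hθ).2 1)

omit hθ h3

theorem f0_nperm : f0 θ (TwEngine.wF 1) ∈ chevD4.monomialSubgroup K ∧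
    TD4.C.G.NPerm (f0 θ (TwEngine.wF 1)) ((TD4.orbits θ).wO TD4.o0) := by
  have e : f0 θ (TwEngine.wF 1) = TD4.C.G.nw [TD4.nd 1] := by
    rw [f0_wF, Good.nw_cons, Good.nw_nil, mul_one]
    show TD4.C.G.nE (TD4.rt 14) 1 = _
    rw [← TD4.simp_rt.2.1]
    simp [Good.nU, Good.nE]
  have hw : (TD4.orbits θ).wO TD4.o0 = TD4.C.G.pw [TD4.nd 1] := by
    show TD4.C.G.pw (orbGraphD4.wl chevD4 TD4.o0) = _
    rw [words]; rfl
  rw [e, hw]
  exact ⟨TD4.C.G.nw_mem_monomial _, TD4.C.G.nPerm_nw _⟩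

theorem f1_nperm : f1 θ (TwEngine.wF 1) ∈ chevD4.monomialSubgroup K ∧
    TD4.C.G.NPerm (f1 θ (TwEngine.wF 1)) ((TD4.orbits θ).wO TD4.o1) := by
  have e : f1 θ (TwEngine.wF 1) = TD4.C.G.nw [TD4.nd 0, TD4.nd 2, TD4.nd 3] := by
    rw [f1_wF, map_one, map_one, Good.nw_cons, Good.nw_cons, Good.nw_cons, Good.nw_nil, mul_one,
      ← TD4.simp_rt.1, ← TD4.simp_rt.2.2.1, ← TD4.simp_rt.2.2.2]
    simp [Good.nU, Good.nE, mul_assoc]
  have hw : (TD4.orbits θ).wO TD4.o1 = TD4.C.G.pw [TD4.nd 0, TD4.nd 2, TD4.nd 3] := by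
    show TD4.C.G.pw (orbGraphD4.wl chevD4 TD4.o1) = _
    rw [words]; rfl
  rw [e, hw]
  exact ⟨TD4.C.G.nw_mem_monomial _, TD4.C.G.nPerm_nw _⟩

theorem tor_mem (c : Fin chevD4.rank → Kˣ) : TD4.C.G.torθ c ∈ chevD4.diagonalSubgroup K :=
  (TD4.C.G.diagonal_eq_range (K := K)).symm ▸ ⟨c, rfl⟩

theorem rt_pos : ∀ r ∈ [14, 18, 13, 12], chevD4.IsPosRoot r := by decide +kernel

theorem f0_diag {x : SL(2, ↥(F0 θ))} (hx : f0 θ x ∈ chevD4.diagonalSubgroup K) : ∃ a, x = SLUniv.dg a := by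
  refine eq_dg_of_diag (C := TD4.C) (f0 θ) (fun t => ?_) (fun t ht => ?_) (fun a => ?_) (f0_nperm θ).1
    (f0_nperm θ).2 ((TD4.orbits θ).wO_ne_one _) hx
  · rw [f0_upper]; exact TD4.C.G.xu_mem_U (rt_pos 14 (by simp)) _
  · rw [f0_upper, TD4.C.G.xu_eq_one_iff] at ht; exact Subtype.ext ht
  · rw [f0_dg]; exact tor_mem _

theorem f1_diag {x : SL(2, K)} (hx : f1 θ x ∈ chevD4.diagonalSubgroup K) : ∃ a, x = SLUniv.dg a := by
  refine eq_dg_of_diag (C := TD4.C) (f1 θ) (fun t => ?_) (fun t ht => ?_) (fun a => ?_) (f1_nperm θ).1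
    (f1_nperm θ).2 ((TD4.orbits θ).wO_ne_one _) hx
  · rw [f1_upper]
    exact mul_mem (mul_mem (TD4.C.G.xu_mem_U (rt_pos 18 (by simp)) _) (TD4.C.G.xu_mem_U (rt_pos 13 (by simp)) _))
      (TD4.C.G.xu_mem_U (rt_pos 12 (by simp)) _)
  · rw [f1_upper] at ht
    have h := TD4Rel.unique_six θ (r := t) (w := 0) (c := 0) (d := 0) (e := 0) (f := 0) (r' := 0) (w' := 0)
      (c' := 0) (d' := 0) (e' := 0) (f' := 0) (by
        simp only [TD4Rel.rootB, TD4Rel.rootC, TD4Rel.rootD, map_zero, neg_zero, TD4Coord.X_zero, mul_one]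
        rw [TD4Coord.X_eq 18 (TD4.rt 18).isLt, TD4Coord.X_eq 13 (TD4.rt 13).isLt,
          TD4Coord.X_eq 12 (TD4.rt 12).isLt]
        exact ht)
    exact h.1
  · rw [f1_dg]; exact tor_mem _

variable [Fintype K]

/-- no multiplier away from the defining prime -/
theorem not_dvd_of_ne (hq : IsPrimePow q) (hK : Fintype.card K = q ^ 3) {Γ : Type*} [Group Γ] [Finite Γ]
    {τ : Γ →* ↥(twistedD4 K q)} (hτ : Cfsg.IsStemExtension τ) (hp : ¬ ringChar K ∣ Nat.card τ.ker) :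
    τ.ker = ⊥ := by
  classical
  obtain ⟨θ, hθ⟩ := Frob.exists_powEquiv (K := K) hq hK
  have h3 : ∀ t : K, θ (θ (θ t)) = t := TD4.h3_of θ hθ hK
  have P := TD4.twGp θ hθ h3
  have : IsSimpleGroup ↥(twistedD4 K q) := (TD4.summary2 hq hK).2.2.1
  have : Nonempty (Fin orbGraphD4.no) := ⟨TD4.o0⟩
  have := ringChar.charP K
  have hpr : (ringChar K).Prime := CharP.char_is_prime K _
  have : Fact (ringChar K).Prime := ⟨hpr⟩
  have hU : IsPGroup (ringChar K) ↥(Ug (TD4.twist θ) (twistedD4 K q)) := by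
    obtain ⟨p, n, hp', hn, rfl⟩ := hq
    have hpp : p.Prime := Nat.prime_iff.2 hp'
    have h1 : ringChar K ∣ Fintype.card K := (ringChar.spec K _).1 (FiniteField.cast_card_eq_zero K)
    rw [hK, ← pow_mul] at h1
    obtain rfl : ringChar K = p := (Nat.prime_dvd_prime_iff_eq hpr hpp).1 (hpr.dvd_of_dvd_pow h1)
    refine IsPGroup.of_card (n := n * 12) ?_
    have hq' : IsPrimePow (ringChar K ^ n) := ⟨_, n, hp', hn, rfl⟩
    obtain ⟨-, hcard, -⟩ := TD4.summary hq' hK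
    have hle : (TD4.twist θ).Fix ⊓ chevD4.posUnipotent K ≤ twistedD4 K (ringChar K ^ n) := P.toPre.U_le
    rw [Ug, Nat.card_congr (Subgroup.subgroupOfEquivOfLe hle).toEquiv, pow_mul, ← hcard, P.eq_Fix,
      inf_comm]
  let D := eData P (ringChar K) hU M (braid_ok θ) (faith θ)
  have E : Setup τ (ringChar K) := ⟨hpr, hτ.1, hτ.2.1, hp⟩
  -- the two rank one groups
  let g0 : SL(2, ↥(F0 θ)) →* ↥(twistedD4 K q) := (f0 θ).codRestrict _ (f0_mem θ hθ h3)
  let g1 : SL(2, K) →* ↥(twistedD4 K q) := (f1 θ).codRestrict _ (f1_mem θ hθ h3)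
  have hfix : ∀ a : (↥(F0 θ))ˣ, θ ((Units.map (F0 θ).subtype.toMonoidHom a : Kˣ) : K) =
      (Units.map (F0 θ).subtype.toMonoidHom a : Kˣ) := fun a => (a : ↥(F0 θ)).2
  have hinj : ∀ {a b a' b' : Kˣ}, θ (a : K) = a → θ (a' : K) = a' →
      TD4.C.G.torθ (TD4.par θ a b) = TD4.C.G.torθ (TD4.par θ a' b') → a = a' ∧ b = b' := by
    intro a b a' b' ha ha' e
    have := TD4.torθ_injective_fixed θ h3 (TD4.par_fixed θ h3 ha) (TD4.par_fixed θ h3 ha') e
    have hd : (TD4.nd 0 : Fin chevD4.rank) ≠ TD4.nd 1 := by decide +kernel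
    have e1 := congrFun this (TD4.nd 1)
    have e2 := congrFun this (TD4.nd 0)
    simp only [TD4.par, if_true, if_neg hd] at e1 e2
    exact ⟨e1, e2⟩
  have hone : (TD4.par θ 1 1 : Fin chevD4.rank → Kˣ) = 1 := funext fun j => by
    simp only [TD4.par]; split_ifs <;> simp
  have i0 : Function.Injective g0 := by
    have h := injective_of_diag (f0 θ) (fun x hx => f0_diag θ hx) fun a ha => by
      rw [f0_dg, ← map_one (TD4.C.G.torθ (K := K)), ← hone] at ha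
      exact Units.ext (Subtype.ext (congrArg Units.val (hinj (hfix a) (by simp) ha).1))
    exact fun x y e => h (congrArg Subtype.val e)
  have i1 : Function.Injective g1 := by
    have h := injective_of_diag (f1 θ) (fun x hx => f1_diag θ hx) fun a ha => by
      rw [f1_dg, ← map_one (TD4.C.G.torθ (K := K)), ← hone] at ha
      exact (hinj (by simp) (by simp) ha).2
    exact fun x y e => h (congrArg Subtype.val e)
  have hL0 : Xg (TD4.orbits θ) (twistedD4 K q) TD4.o0 ⊔ Xng P TD4.o0 ≤ g0.range := by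
    refine L_le P TD4.o0 ?_ (n0 := g0 (TwEngine.wF 1)) ⟨_, rfl⟩ (f0_nperm θ).1 (f0_nperm θ).2
    intro x hx
    obtain ⟨t, ht, e⟩ := TD4.X_zero θ (Subgroup.mem_subgroupOf.1 hx)
    exact ⟨Fam.upper ⟨t, ht⟩, Subtype.ext ((f0_upper θ ⟨t, ht⟩).trans e.symm)⟩
  have hL1 : Xg (TD4.orbits θ) (twistedD4 K q) TD4.o1 ⊔ Xng P TD4.o1 ≤ g1.range := by
    refine L_le P TD4.o1 ?_ (n0 := g1 (TwEngine.wF 1)) ⟨_, rfl⟩ (f1_nperm θ).1 (f1_nperm θ).2
    intro x hx
    obtain ⟨t, e⟩ := TD4.X_one θ h3 (Subgroup.mem_subgroupOf.1 hx)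
    exact ⟨Fam.upper t, Subtype.ext ((f1_upper θ t).trans e.symm)⟩
  have mono : ∀ {L L' : Subgroup ↥(twistedD4 K q)}, L ≤ L' → lhat τ (ringChar K) L ≤ lhat τ (ringChar K) L' :=
    fun h => Subgroup.closure_mono fun g hg => ⟨h hg.1, hg.2⟩
  have : CharP ↥(F0 θ) (ringChar K) := inferInstance
  have hsplit : ∀ k, D.Lh τ k ⊓ τ.ker = ⊥ := fun k => by
    rcases TD4.o_cases k with rfl | rfl
    · refine le_bot_iff.1 (le_trans (inf_le_inf_right _ (mono hL0)) ?_)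
      rw [lhat_inf_ker_of_sl2 E g0 i0]
    · refine le_bot_iff.1 (le_trans (inf_le_inf_right _ (mono hL1)) ?_)
      rw [lhat_inf_ker_of_sl2 E g1 i1]
  refine D.ker_eq_bot E hsplit hτ ?_
  have hne : (TD4.o0 : Fin orbGraphD4.no) ≠ TD4.o1 := by decide +kernel
  refine (iSupIndep_pair hne TD4.o_cases).2 ?_
  rw [disjoint_iff, eq_bot_iff]
  rintro g ⟨⟨hgH, hg0⟩, ⟨-, hg1⟩⟩
  obtain ⟨x, rfl⟩ := hL0 hg0
  obtain ⟨y, hy⟩ := hL1 hg1
  have hH : f0 θ x ∈ chevD4.diagonalSubgroup K := (Subgroup.mem_inf.1 (Subgroup.mem_subgroupOf.1 hgH)).2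
  have e : f1 θ y = f0 θ x := congrArg Subtype.val hy
  obtain ⟨a, rfl⟩ := f0_diag θ hH
  obtain ⟨b, rfl⟩ := f1_diag θ (e ▸ hH)
  rw [f0_dg, f1_dg] at e
  obtain ⟨h1, -⟩ := hinj (by simp) (hfix a) e
  rw [Subgroup.mem_bot]
  refine Subtype.ext ?_
  show f0 θ (SLUniv.dg a) = 1
  rw [f0_dg, ← h1, hone, map_one]

end CfsgLib.Lie.Mult.TD4Prime
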