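import Cfsg.Agent.Lib.Lie.Mult.TD4.Coord

/-!
# Commutators of the root subgroups of `³D₄`
-/

set_option autoImplicit false
set_option maxRecDepth 100000
set_option maxHeartbeats 1600000
set_option linter.style.longLine false
set_option linter.unusedSimpArgs false
set_option linter.unreachableTactic false
set_option linter.unusedTactic false

namespace CfsgLib.Lie.Mult.TD4Rel

open Cfsg.Lie CfsgLib.Lie.Chev TD4Coord
open scoped commutatorElement

variable {K : Type*} [Field K] (θ : K ≃+* K)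

/-- short simple root -/
noncomputable def rootB (r : K) : GL chevD4.Idx K := X 18 r * X 13 (θ r) * X 12 (θ (θ r))

/-- the second short root -/
noncomputable def rootC (c : K) : GL chevD4.Idx K := X 19 c * X 16 (-θ c) * X 15 (-θ (θ c))

/-- the third short root -/
noncomputable def rootD (d : K) : GL chevD4.Idx K := X 21 d * X 17 (-θ d) * X 20 (θ (θ d))

theorem comm_of_mul {G : Type*} [Group G] {a b m : G} (h : ∀ g : G, a * (b * g) = m * (b * (a * g))) :
    ⁅a, b⁆ = m := by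
  have := h (a⁻¹ * b⁻¹)
  rw [mul_inv_cancel_left, mul_inv_cancel, mul_one, ← mul_assoc, ← mul_assoc] at this
  rw [commutatorElement_def]
  exact this

theorem commute_of_mul {G : Type*} [Group G] {a b : G} (h : ∀ g : G, a * (b * g) = b * (a * g)) :
    Commute a b := by show a * b = b * a; simpa using h 1

theorem addB (x y : K) : rootB θ (x + y) = rootB θ x * rootB θ y := by
  refine mul_right_cancel (b := (1 : GL chevD4.Idx K)) ?_
  simp only [rootB, rootC, rootD, mul_assoc, merge, map_add, map_neg, map_mul, sw_12_13, sw_12_14, sw_12_15, sw_12_16, sw_12_17, sw_12_18, sw_12_19, sw_12_20, sw_12_21, sw_12_22, sw_12_23, sw_13_14, sw_13_15, sw_13_16, sw_13_17, sw_13_18, sw_13_19, sw_13_20, sw_13_21, sw_13_22, sw_13_23, sw_14_15, sw_14_16, sw_14_17, sw_14_18, sw_14_19, sw_14_20, sw_14_21, sw_14_22, sw_14_23, sw_15_16, sw_15_17, sw_15_18, sw_15_19, sw_15_20, sw_15_21, sw_15_22, sw_15_23, sw_16_17, sw_16_18, sw_16_19,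 sw_16_20, sw_16_21, sw_16_22, sw_16_23, sw_17_18, sw_17_19, sw_17_20, sw_17_21, sw_17_22, sw_17_23, sw_18_19, sw_18_20, sw_18_21, sw_18_22, sw_18_23, sw_19_20, sw_19_21, sw_19_22, sw_19_23, sw_20_21, sw_20_22, sw_20_23, sw_21_22, sw_21_23, sw_22_23]
  try ring_nf
  try simp only [X_zero, one_mul]
  try (repeat' apply congrArg₂ (· * ·))
  all_goals first | rfl | (congr 1 <;> ring)

theorem addC (x y : K) : rootC θ (x + y) = rootC θ x * rootC θ y := by
  refine mul_right_cancel (b := (1 : GL chevD4.Idx K)) ?_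
  simp only [rootB, rootC, rootD, mul_assoc, merge, map_add, map_neg, map_mul, sw_12_13, sw_12_14, sw_12_15, sw_12_16, sw_12_17, sw_12_18, sw_12_19, sw_12_20, sw_12_21, sw_12_22, sw_12_23, sw_13_14, sw_13_15, sw_13_16, sw_13_17, sw_13_18, sw_13_19, sw_13_20, sw_13_21, sw_13_22, sw_13_23, sw_14_15, sw_14_16, sw_14_17, sw_14_18, sw_14_19, sw_14_20, sw_14_21, sw_14_22, sw_14_23, sw_15_16, sw_15_17, sw_15_18, sw_15_19, sw_15_20, sw_15_21, sw_15_22, sw_15_23, sw_16_17, sw_16_18, sw_16_19, sw_16_20, sw_16_21, sw_16_22, sw_16_23, sw_17_18, sw_17_19, sw_17_20, sw_17_21, sw_17_22, sw_17_23, sw_18_19, sw_18_20, sw_18_21, sw_18_22, sw_18_23, sw_19_20, sw_19_21, sw_19_22, sw_19_23, sw_20_21, sw_20_22, sw_20_23, sw_21_22, sw_21_23, sw_22_23]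
  try ring_nf
  try simp only [X_zero, one_mul]
  try (repeat' apply congrArg₂ (· * ·))
  all_goals first | rfl | (congr 1 <;> ring)

theorem addD (x y : K) : rootD θ (x + y) = rootD θ x * rootD θ y := by
  refine mul_right_cancel (b := (1 : GL chevD4.Idx K)) ?_
  simp only [rootB, rootC, rootD, mul_assoc, merge, map_add, map_neg, map_mul, sw_12_13, sw_12_14, sw_12_15, sw_12_16, sw_12_17, sw_12_18, sw_12_19, sw_12_20, sw_12_21, sw_12_22, sw_12_23, sw_13_14, sw_13_15, sw_13_16, sw_13_17, sw_13_18, sw_13_19, sw_13_20, sw_13_21, sw_13_22, sw_13_23, sw_14_15, sw_14_16, sw_14_17, sw_14_18, sw_14_19, sw_14_20, sw_14_21, sw_14_22, sw_14_23, sw_15_16, sw_15_17, sw_15_18, sw_15_19, sw_15_20, sw_15_21, sw_15_22, sw_15_23, sw_16_17, sw_16_18, sw_16_19, sw_16_20, sw_16_21, sw_16_22, sw_16_23, sw_17_18, sw_17_19, sw_17_20, sw_17_21, sw_17_22, sw_17_23, sw_18_19, sw_18_20, sw_18_21, sw_18_22, sw_18_23, sw_19_20, sw_19_21, sw_19_22,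 sw_19_23, sw_20_21, sw_20_22, sw_20_23, sw_21_22, sw_21_23, sw_22_23]
  try ring_nf
  try simp only [X_zero, one_mul]
  try (repeat' apply congrArg₂ (· * ·))
  all_goals first | rfl | (congr 1 <;> ring)

theorem cAC (w y : K) : Commute (X 14 w) (rootC θ y) := by
  refine commute_of_mul fun g => ?_
  simp only [rootB, rootC, rootD, mul_assoc, merge, map_add, map_neg, map_mul, sw_12_13, sw_12_14, sw_12_15, sw_12_16, sw_12_17, sw_12_18, sw_12_19, sw_12_20, sw_12_21, sw_12_22, sw_12_23, sw_13_14, sw_13_15, sw_13_16, sw_13_17, sw_13_18, sw_13_19, sw_13_20, sw_13_21, sw_13_22, sw_13_23, sw_14_15, sw_14_16, sw_14_17, sw_14_18, sw_14_19, sw_14_20, sw_14_21, sw_14_22, sw_14_23, sw_15_16, sw_15_17, sw_15_18, sw_15_19, sw_15_20, sw_15_21, sw_15_22, sw_15_23, sw_16_17, sw_16_18, sw_16_19, sw_16_20, sw_16_21, sw_16_22, sw_16_23, sw_17_18, sw_17_19, sw_17_20, sw_17_21, sw_17_22, sw_17_23, sw_18_19, sw_18_20, sw_18_21, sw_18_22,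 sw_18_23, sw_19_20, sw_19_21, sw_19_22, sw_19_23, sw_20_21, sw_20_22, sw_20_23, sw_21_22, sw_21_23, sw_22_23]
  try ring_nf
  try simp only [X_zero, one_mul]
  try (repeat' apply congrArg₂ (· * ·))
  all_goals first | rfl | (congr 1 <;> ring)

theorem cAD (w y : K) : Commute (X 14 w) (rootD θ y) := by
  refine commute_of_mul fun g => ?_
  simp only [rootB, rootC, rootD, mul_assoc, merge, map_add, map_neg, map_mul, sw_12_13, sw_12_14, sw_12_15, sw_12_16, sw_12_17, sw_12_18, sw_12_19, sw_12_20, sw_12_21, sw_12_22, sw_12_23, sw_13_14, sw_13_15, sw_13_16, sw_13_17, sw_13_18, sw_13_19, sw_13_20, sw_13_21, sw_13_22, sw_13_23, sw_14_15, sw_14_16, sw_14_17, sw_14_18, sw_14_19, sw_14_20, sw_14_21, sw_14_22, sw_14_23, sw_15_16, sw_15_17, sw_15_18, sw_15_19, sw_15_20, sw_15_21, sw_15_22, sw_15_23, sw_16_17, sw_16_18, sw_16_19, sw_16_20, sw_16_21, sw_16_22, sw_16_23, sw_17_18, sw_17_19, sw_17_20, sw_17_21, sw_17_22, sw_17_23,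 sw_18_19, sw_18_20, sw_18_21, sw_18_22, sw_18_23, sw_19_20, sw_19_21, sw_19_22, sw_19_23, sw_20_21, sw_20_22, sw_20_23, sw_21_22, sw_21_23, sw_22_23]
  try ring_nf
  try simp only [X_zero, one_mul]
  try (repeat' apply congrArg₂ (· * ·))
  all_goals first | rfl | (congr 1 <;> ring)

theorem cAF (w y : K) : Commute (X 14 w) (X 23 y) := by
  refine commute_of_mul fun g => ?_
  simp only [rootB, rootC, rootD, mul_assoc, merge, map_add, map_neg, map_mul, sw_12_13, sw_12_14, sw_12_15, sw_12_16, sw_12_17, sw_12_18, sw_12_19, sw_12_20, sw_12_21, sw_12_22, sw_12_23, sw_13_14, sw_13_15, sw_13_16, sw_13_17, sw_13_18, sw_13_19, sw_13_20, sw_13_21, sw_13_22, sw_13_23, sw_14_15, sw_14_16, sw_14_17, sw_14_18, sw_14_19, sw_14_20, sw_14_21, sw_14_22, sw_14_23, sw_15_16, sw_15_17, sw_15_18, sw_15_19, sw_15_20, sw_15_21, sw_15_22, sw_15_23, sw_16_17, sw_16_18, sw_16_19, sw_16_20, sw_16_21, sw_16_22, sw_16_23, sw_17_18, sw_17_19, sw_17_20,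 sw_17_21, sw_17_22, sw_17_23, sw_18_19, sw_18_20, sw_18_21, sw_18_22, sw_18_23, sw_19_20, sw_19_21, sw_19_22, sw_19_23, sw_20_21, sw_20_22, sw_20_23, sw_21_22, sw_21_23, sw_22_23]
  try ring_nf
  try simp only [X_zero, one_mul]
  try (repeat' apply congrArg₂ (· * ·))
  all_goals first | rfl | (congr 1 <;> ring)

theorem cBE (x y : K) : Commute (rootB θ x) (X 22 y) := by
  refine commute_of_mul fun g => ?_
  simp only [rootB, rootC, rootD, mul_assoc, merge, map_add, map_neg, map_mul, sw_12_13, sw_12_14, sw_12_15, sw_12_16, sw_12_17, sw_12_18, sw_12_19, sw_12_20, sw_12_21, sw_12_22, sw_12_23, sw_13_14, sw_13_15, sw_13_16, sw_13_17, sw_13_18, sw_13_19, sw_13_20, sw_13_21, sw_13_22, sw_13_23, sw_14_15, sw_14_16, sw_14_17, sw_14_18, sw_14_19, sw_14_20, sw_14_21, sw_14_22, sw_14_23, sw_15_16, sw_15_17, sw_15_18, sw_15_19, sw_15_20, sw_15_21, sw_15_22, sw_15_23, sw_16_17, sw_16_18, sw_16_19, sw_16_20, sw_16_21, sw_16_22,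 sw_16_23, sw_17_18, sw_17_19, sw_17_20, sw_17_21, sw_17_22, sw_17_23, sw_18_19, sw_18_20, sw_18_21, sw_18_22, sw_18_23, sw_19_20, sw_19_21, sw_19_22, sw_19_23, sw_20_21, sw_20_22, sw_20_23, sw_21_22, sw_21_23, sw_22_23]
  try ring_nf
  try simp only [X_zero, one_mul]
  try (repeat' apply congrArg₂ (· * ·))
  all_goals first | rfl | (congr 1 <;> ring)

theorem cBF (x y : K) : Commute (rootB θ x) (X 23 y) := by
  refine commute_of_mul fun g => ?_
  simp only [rootB, rootC, rootD, mul_assoc, merge, map_add, map_neg, map_mul, sw_12_13, sw_12_14, sw_12_15, sw_12_16, sw_12_17, sw_12_18, sw_12_19, sw_12_20, sw_12_21, sw_12_22, sw_12_23, sw_13_14, sw_13_15, sw_13_16, sw_13_17, sw_13_18, sw_13_19, sw_13_20, sw_13_21, sw_13_22, sw_13_23, sw_14_15, sw_14_16, sw_14_17, sw_14_18, sw_14_19, sw_14_20, sw_14_21, sw_14_22, sw_14_23, sw_15_16, sw_15_17, sw_15_18, sw_15_19, sw_15_20, sw_15_21, sw_15_22, sw_15_23, sw_16_17, sw_16_18,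 sw_16_19, sw_16_20, sw_16_21, sw_16_22, sw_16_23, sw_17_18, sw_17_19, sw_17_20, sw_17_21, sw_17_22, sw_17_23, sw_18_19, sw_18_20, sw_18_21, sw_18_22, sw_18_23, sw_19_20, sw_19_21, sw_19_22, sw_19_23, sw_20_21, sw_20_22, sw_20_23, sw_21_22, sw_21_23, sw_22_23]
  try ring_nf
  try simp only [X_zero, one_mul]
  try (repeat' apply congrArg₂ (· * ·))
  all_goals first | rfl | (congr 1 <;> ring)

theorem cCE (x y : K) : Commute (rootC θ x) (X 22 y) := by
  refine commute_of_mul fun g => ?_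
  simp only [rootB, rootC, rootD, mul_assoc, merge, map_add, map_neg, map_mul, sw_12_13, sw_12_14, sw_12_15, sw_12_16, sw_12_17, sw_12_18, sw_12_19, sw_12_20, sw_12_21, sw_12_22, sw_12_23, sw_13_14, sw_13_15, sw_13_16, sw_13_17, sw_13_18, sw_13_19, sw_13_20, sw_13_21, sw_13_22, sw_13_23, sw_14_15, sw_14_16, sw_14_17, sw_14_18, sw_14_19, sw_14_20, sw_14_21, sw_14_22, sw_14_23, sw_15_16, sw_15_17, sw_15_18, sw_15_19, sw_15_20, sw_15_21, sw_15_22, sw_15_23, sw_16_17, sw_16_18, sw_16_19, sw_16_20, sw_16_21, sw_16_22, sw_16_23, sw_17_18, sw_17_19, sw_17_20, sw_17_21, sw_17_22, sw_17_23, sw_18_19, sw_18_20, sw_18_21, sw_18_22, sw_18_23, sw_19_20, sw_19_21, sw_19_22, sw_19_23, sw_20_21, sw_20_22, sw_20_23, sw_21_22, sw_21_23, sw_22_23]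
  try ring_nf
  try simp only [X_zero, one_mul]
  try (repeat' apply congrArg₂ (· * ·))
  all_goals first | rfl | (congr 1 <;> ring)

theorem cCF (x y : K) : Commute (rootC θ x) (X 23 y) := by
  refine commute_of_mul fun g => ?_
  simp only [rootB, rootC, rootD, mul_assoc, merge, map_add, map_neg, map_mul, sw_12_13, sw_12_14, sw_12_15, sw_12_16, sw_12_17, sw_12_18, sw_12_19, sw_12_20, sw_12_21, sw_12_22, sw_12_23, sw_13_14, sw_13_15, sw_13_16, sw_13_17, sw_13_18, sw_13_19, sw_13_20, sw_13_21, sw_13_22, sw_13_23, sw_14_15, sw_14_16, sw_14_17, sw_14_18, sw_14_19, sw_14_20, sw_14_21, sw_14_22, sw_14_23, sw_15_16, sw_15_17, sw_15_18, sw_15_19, sw_15_20, sw_15_21, sw_15_22, sw_15_23, sw_16_17, sw_16_18, sw_16_19, sw_16_20, sw_16_21, sw_16_22, sw_16_23, sw_17_18, sw_17_19, sw_17_20, sw_17_21, sw_17_22, sw_17_23, sw_18_19, sw_18_20, sw_18_21, sw_18_22, sw_18_23, sw_19_20, sw_19_21, sw_19_22, sw_19_23, sw_20_21, sw_20_22,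 sw_20_23, sw_21_22, sw_21_23, sw_22_23]
  try ring_nf
  try simp only [X_zero, one_mul]
  try (repeat' apply congrArg₂ (· * ·))
  all_goals first | rfl | (congr 1 <;> ring)

theorem cDE (x y : K) : Commute (rootD θ x) (X 22 y) := by
  refine commute_of_mul fun g => ?_
  simp only [rootB, rootC, rootD, mul_assoc, merge, map_add, map_neg, map_mul, sw_12_13, sw_12_14, sw_12_15, sw_12_16, sw_12_17, sw_12_18, sw_12_19, sw_12_20, sw_12_21, sw_12_22, sw_12_23, sw_13_14, sw_13_15, sw_13_16, sw_13_17, sw_13_18, sw_13_19, sw_13_20, sw_13_21, sw_13_22, sw_13_23, sw_14_15, sw_14_16, sw_14_17, sw_14_18, sw_14_19, sw_14_20, sw_14_21, sw_14_22, sw_14_23, sw_15_16, sw_15_17, sw_15_18, sw_15_19, sw_15_20, sw_15_21, sw_15_22, sw_15_23, sw_16_17, sw_16_18, sw_16_19, sw_16_20, sw_16_21, sw_16_22, sw_16_23, sw_17_18, sw_17_19, sw_17_20, sw_17_21, sw_17_22, sw_17_23, sw_18_19, sw_18_20, sw_18_21, sw_18_22, sw_18_23, sw_19_20, sw_19_21,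 sw_19_22, sw_19_23, sw_20_21, sw_20_22, sw_20_23, sw_21_22, sw_21_23, sw_22_23]
  try ring_nf
  try simp only [X_zero, one_mul]
  try (repeat' apply congrArg₂ (· * ·))
  all_goals first | rfl | (congr 1 <;> ring)

theorem cDF (x y : K) : Commute (rootD θ x) (X 23 y) := by
  refine commute_of_mul fun g => ?_
  simp only [rootB, rootC, rootD, mul_assoc, merge, map_add, map_neg, map_mul, sw_12_13, sw_12_14, sw_12_15, sw_12_16, sw_12_17, sw_12_18, sw_12_19, sw_12_20, sw_12_21, sw_12_22, sw_12_23, sw_13_14, sw_13_15, sw_13_16, sw_13_17, sw_13_18, sw_13_19, sw_13_20, sw_13_21, sw_13_22, sw_13_23, sw_14_15, sw_14_16, sw_14_17, sw_14_18, sw_14_19, sw_14_20, sw_14_21, sw_14_22, sw_14_23, sw_15_16, sw_15_17, sw_15_18, sw_15_19, sw_15_20, sw_15_21, sw_15_22, sw_15_23, sw_16_17, sw_16_18, sw_16_19, sw_16_20, sw_16_21, sw_16_22, sw_16_23, sw_17_18, sw_17_19, sw_17_20, sw_17_21, sw_17_22, sw_17_23, sw_18_19, sw_18_20, sw_18_21,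 sw_18_22, sw_18_23, sw_19_20, sw_19_21, sw_19_22, sw_19_23, sw_20_21, sw_20_22, sw_20_23, sw_21_22, sw_21_23, sw_22_23]
  try ring_nf
  try simp only [X_zero, one_mul]
  try (repeat' apply congrArg₂ (· * ·))
  all_goals first | rfl | (congr 1 <;> ring)

theorem cEF (x y : K) : Commute ((X 22 x : GL chevD4.Idx K)) (X 23 y) := by
  refine commute_of_mul fun g => ?_
  simp only [rootB, rootC, rootD, mul_assoc, merge, map_add, map_neg, map_mul, sw_12_13, sw_12_14, sw_12_15, sw_12_16, sw_12_17, sw_12_18, sw_12_19, sw_12_20, sw_12_21, sw_12_22, sw_12_23, sw_13_14, sw_13_15, sw_13_16, sw_13_17, sw_13_18, sw_13_19, sw_13_20, sw_13_21, sw_13_22, sw_13_23, sw_14_15, sw_14_16, sw_14_17, sw_14_18, sw_14_19, sw_14_20, sw_14_21, sw_14_22, sw_14_23, sw_15_16, sw_15_17, sw_15_18, sw_15_19, sw_15_20, sw_15_21, sw_15_22, sw_15_23, sw_16_17, sw_16_18, sw_16_19, sw_16_20, sw_16_21, sw_16_22, sw_16_23, sw_17_18, sw_17_19, sw_17_20, sw_17_21,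 sw_17_22, sw_17_23, sw_18_19, sw_18_20, sw_18_21, sw_18_22, sw_18_23, sw_19_20, sw_19_21, sw_19_22, sw_19_23, sw_20_21, sw_20_22, sw_20_23, sw_21_22, sw_21_23, sw_22_23]
  try ring_nf
  try simp only [X_zero, one_mul]
  try (repeat' apply congrArg₂ (· * ·))
  all_goals first | rfl | (congr 1 <;> ring)

theorem rAB (h3 : ∀ t : K, θ (θ (θ t)) = t) (w r : K) (hw : θ w = w) : ⁅X 14 w, rootB θ r⁆ =
    rootC θ (w * r) * rootD θ (w * (r * θ r)) * X 22 (w * (r * θ r * θ (θ r))) *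
      X 23 (-(w * w * (r * θ r * θ (θ r)))) := by
  refine comm_of_mul fun g => ?_
  simp only [rootB, rootC, rootD, mul_assoc, merge, map_add, map_neg, map_mul, hw, h3, sw_12_13, sw_12_14, sw_12_15, sw_12_16, sw_12_17, sw_12_18, sw_12_19, sw_12_20, sw_12_21, sw_12_22, sw_12_23, sw_13_14, sw_13_15, sw_13_16, sw_13_17, sw_13_18, sw_13_19, sw_13_20, sw_13_21, sw_13_22, sw_13_23, sw_14_15, sw_14_16, sw_14_17, sw_14_18, sw_14_19, sw_14_20, sw_14_21, sw_14_22, sw_14_23, sw_15_16, sw_15_17, sw_15_18, sw_15_19, sw_15_20, sw_15_21, sw_15_22, sw_15_23, sw_16_17, sw_16_18, sw_16_19, sw_16_20, sw_16_21, sw_16_22, sw_16_23, sw_17_18, sw_17_19, sw_17_20, sw_17_21, sw_17_22, sw_17_23, sw_18_19, sw_18_20, sw_18_21, sw_18_22, sw_18_23, sw_19_20, sw_19_21, sw_19_22, sw_19_23, sw_20_21, sw_20_22, sw_20_23, sw_21_22, sw_21_23, sw_22_23]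
  try ring_nf
  try simp only [X_zero, one_mul]
  try (repeat' apply congrArg₂ (· * ·))
  all_goals first | rfl | (congr 1 <;> ring)

theorem rBC (h3 : ∀ t : K, θ (θ (θ t)) = t) (r s : K) : ⁅rootB θ r, rootC θ s⁆ =
    rootD θ (θ r * s + r * θ s) *
      X 22 (θ r * θ (θ r) * s + θ (θ r) * r * θ s + r * θ r * θ (θ s)) *
      X 23 (r * θ s * θ (θ s) + θ r * θ (θ s) * s + θ (θ r) * s * θ s) := by
  refine comm_of_mul fun g => ?_
  simp only [rootB, rootC, rootD, mul_assoc, merge, map_add, map_neg, map_mul, h3, sw_12_13, sw_12_14, sw_12_15, sw_12_16, sw_12_17, sw_12_18, sw_12_19, sw_12_20, sw_12_21, sw_12_22, sw_12_23, sw_13_14, sw_13_15, sw_13_16, sw_13_17, sw_13_18, sw_13_19, sw_13_20, sw_13_21, sw_13_22, sw_13_23, sw_14_15, sw_14_16, sw_14_17, sw_14_18, sw_14_19, sw_14_20, sw_14_21, sw_14_22, sw_14_23, sw_15_16, sw_15_17, sw_15_18, sw_15_19, sw_15_20, sw_15_21, sw_15_22, sw_15_23, sw_16_17, sw_16_18, sw_16_19, sw_16_20,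 sw_16_21, sw_16_22, sw_16_23, sw_17_18, sw_17_19, sw_17_20, sw_17_21, sw_17_22, sw_17_23, sw_18_19, sw_18_20, sw_18_21, sw_18_22, sw_18_23, sw_19_20, sw_19_21, sw_19_22, sw_19_23, sw_20_21, sw_20_22, sw_20_23, sw_21_22, sw_21_23, sw_22_23]
  try ring_nf
  try simp only [X_zero, one_mul]
  try (repeat' apply congrArg₂ (· * ·))
  all_goals first | rfl | (congr 1 <;> ring)

theorem rBD (r d : K) (h3 : ∀ t : K, θ (θ (θ t)) = t) : ⁅rootB θ r, rootD θ d⁆ =
    X 22 (r * θ d + θ (r * θ d) + θ (θ (r * θ d))) := by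
  refine comm_of_mul fun g => ?_
  simp only [rootB, rootC, rootD, mul_assoc, merge, map_add, map_neg, map_mul, h3, sw_12_13, sw_12_14, sw_12_15, sw_12_16, sw_12_17, sw_12_18, sw_12_19, sw_12_20, sw_12_21, sw_12_22, sw_12_23, sw_13_14, sw_13_15, sw_13_16, sw_13_17, sw_13_18, sw_13_19, sw_13_20, sw_13_21, sw_13_22, sw_13_23, sw_14_15, sw_14_16, sw_14_17, sw_14_18, sw_14_19, sw_14_20, sw_14_21, sw_14_22, sw_14_23, sw_15_16, sw_15_17, sw_15_18, sw_15_19, sw_15_20, sw_15_21, sw_15_22, sw_15_23, sw_16_17, sw_16_18, sw_16_19, sw_16_20, sw_16_21, sw_16_22, sw_16_23, sw_17_18, sw_17_19, sw_17_20, sw_17_21, sw_17_22, sw_17_23, sw_18_19, sw_18_20, sw_18_21, sw_18_22, sw_18_23, sw_19_20, sw_19_21, sw_19_22, sw_19_23, sw_20_21, sw_20_22, sw_20_23, sw_21_22, sw_21_23, sw_22_23]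
  try ring_nf
  try simp only [X_zero, one_mul]
  try (repeat' apply congrArg₂ (· * ·))
  all_goals first | rfl | (congr 1 <;> ring)

theorem rCD (c d : K) (h3 : ∀ t : K, θ (θ (θ t)) = t) : ⁅rootC θ c, rootD θ d⁆ =
    X 23 (c * θ d + θ (c * θ d) + θ (θ (c * θ d))) := by
  refine comm_of_mul fun g => ?_
  simp only [rootB, rootC, rootD, mul_assoc, merge, map_add, map_neg, map_mul, h3, sw_12_13, sw_12_14, sw_12_15, sw_12_16, sw_12_17, sw_12_18, sw_12_19, sw_12_20, sw_12_21, sw_12_22, sw_12_23, sw_13_14, sw_13_15, sw_13_16, sw_13_17, sw_13_18, sw_13_19, sw_13_20, sw_13_21, sw_13_22, sw_13_23, sw_14_15, sw_14_16, sw_14_17, sw_14_18, sw_14_19, sw_14_20, sw_14_21, sw_14_22, sw_14_23, sw_15_16, sw_15_17, sw_15_18, sw_15_19, sw_15_20, sw_15_21, sw_15_22, sw_15_23, sw_16_17, sw_16_18, sw_16_19, sw_16_20, sw_16_21, sw_16_22, sw_16_23, sw_17_18, sw_17_19, sw_17_20, sw_17_21, sw_17_22, sw_17_23, sw_18_19, sw_18_20, sw_18_21,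 sw_18_22, sw_18_23, sw_19_20, sw_19_21, sw_19_22, sw_19_23, sw_20_21, sw_20_22, sw_20_23, sw_21_22, sw_21_23, sw_22_23]
  try ring_nf
  try simp only [X_zero, one_mul]
  try (repeat' apply congrArg₂ (· * ·))
  all_goals first | rfl | (congr 1 <;> ring)

theorem rAE (w e : K) : ⁅(X 14 w : GL chevD4.Idx K), X 22 e⁆ = X 23 (w * e) := by
  refine comm_of_mul fun g => ?_
  simp only [rootB, rootC, rootD, mul_assoc, merge, map_add, map_neg, map_mul, sw_12_13, sw_12_14, sw_12_15, sw_12_16, sw_12_17, sw_12_18, sw_12_19, sw_12_20, sw_12_21, sw_12_22, sw_12_23, sw_13_14, sw_13_15, sw_13_16, sw_13_17, sw_13_18, sw_13_19, sw_13_20, sw_13_21, sw_13_22, sw_13_23, sw_14_15, sw_14_16, sw_14_17, sw_14_18, sw_14_19, sw_14_20, sw_14_21, sw_14_22, sw_14_23, sw_15_16, sw_15_17, sw_15_18, sw_15_19, sw_15_20, sw_15_21, sw_15_22, sw_15_23, sw_16_17, sw_16_18, sw_16_19, sw_16_20, sw_16_21, sw_16_22, sw_16_23, sw_17_18, sw_17_19, sw_17_20,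 sw_17_21, sw_17_22, sw_17_23, sw_18_19, sw_18_20, sw_18_21, sw_18_22, sw_18_23, sw_19_20, sw_19_21, sw_19_22, sw_19_23, sw_20_21, sw_20_22, sw_20_23, sw_21_22, sw_21_23, sw_22_23]
  try ring_nf
  try simp only [X_zero, one_mul]
  try (repeat' apply congrArg₂ (· * ·))
  all_goals first | rfl | (congr 1 <;> ring)

end CfsgLib.Lie.Mult.TD4Rel
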