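import Cfsg.Agent.Lib.Lie.Mult.Suzuki
import Cfsg.Agent.Lib.Lie.Mult.SylowGens

/-!
# Six root subgroups of type `³D₄` inside a central extension

The lifts of the two elementary commutators `[B, D]` and `[C, D]` only depend on a trace, and the torus
kills all remaining pairings; hence the derived group of the preimage of the unipotent group meets the
kernel trivially.
-/

set_option autoImplicit false

namespace CfsgLib.Lie.Mult.TD4Six

open scoped commutatorElement

/-- the coefficient of `[B(r), C(s)]` in `D` -/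
def dd {K : Type*} [Field K] (θ : K ≃+* K) (r s : K) : K := θ r * s + r * θ s

/-- the trace -/
def tr {K : Type*} [Field K] (θ : K ≃+* K) (y : K) : K := y + θ y + θ (θ y)

/-- six families of elements with the relations of the positive root subgroups of `³D₄` -/
structure Six (G : Type*) [Group G] (K : Type*) [Field K] (θ : K ≃+* K) where
  /-- long simple root -/
  A : K → G
  /-- short simple root -/
  B : K → G
  /-- their sum -/
  C : K → G
  /-- the third short root -/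
  D : K → G
  /-- long root next to the highest -/
  E : K → G
  /-- highest root -/
  F : K → G
  h3 : ∀ t, θ (θ (θ t)) = t
  nonfix : ∃ x, θ x ≠ x
  addA : ∀ x y, A (x + y) = A x * A y
  addB : ∀ x y, B (x + y) = B x * B y
  addC : ∀ x y, C (x + y) = C x * C y
  addD : ∀ x y, D (x + y) = D x * D y
  addE : ∀ x y, E (x + y) = E x * E y
  addF : ∀ x y, F (x + y) = F x * F y
  cAC : ∀ x y, θ x = x → Commute (A x) (C y)
  cAD : ∀ x y, θ x = x → Commute (A x) (D y)
  cAF : ∀ x y, θ x = x → θ y = y → Commute (A x) (F y)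
  cBE : ∀ x y, θ y = y → Commute (B x) (E y)
  cBF : ∀ x y, θ y = y → Commute (B x) (F y)
  cCE : ∀ x y, θ y = y → Commute (C x) (E y)
  cCF : ∀ x y, θ y = y → Commute (C x) (F y)
  cDE : ∀ x y, θ y = y → Commute (D x) (E y)
  cDF : ∀ x y, θ y = y → Commute (D x) (F y)
  cEF : ∀ x y, θ x = x → θ y = y → Commute (E x) (F y)
  rAB : ∀ w r, θ w = w → ∃ d e f, θ e = e ∧ θ f = f ∧ ⁅A w, B r⁆ = C (w * r) * D d * E e * F f
  rBC : ∀ r s, ∃ e f, θ e = e ∧ θ f = f ∧ ⁅B r, C s⁆ = D (dd θ r s) * E e * F f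
  rBD : ∀ r d, ⁅B r, D d⁆ = E (tr θ (r * θ d))
  rCD : ∀ c d, ⁅C c, D d⁆ = F (tr θ (c * θ d))
  rAE : ∀ w e, θ w = w → θ e = e → ⁅A w, E e⁆ = F (w * e)
  /-- the torus -/
  T : Kˣ → Kˣ → G
  T_comm : ∀ a b a' b' : Kˣ, θ (a : K) = a → θ (a' : K) = a' → Commute (T a b) (T a' b')
  T_ord : ∀ a b, ∃ m : ℕ, ¬ ringChar K ∣ m ∧ T a b ^ m = 1
  tA : ∀ a b : Kˣ, θ (a : K) = a → ∀ w, θ w = w →
    T a b * A w * (T a b)⁻¹ = A ((a : K) ^ 2 / ((b : K) * θ b * θ (θ b)) * w)
  tB : ∀ a b : Kˣ, θ (a : K) = a → ∀ r, T a b * B r * (T a b)⁻¹ = B ((b : K) ^ 2 / a * r)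
  tC : ∀ a b : Kˣ, θ (a : K) = a → ∀ r,
    T a b * C r * (T a b)⁻¹ = C ((a : K) * b / (θ b * θ (θ b)) * r)
  tD : ∀ a b : Kˣ, θ (a : K) = a → ∀ r,
    T a b * D r * (T a b)⁻¹ = D ((b : K) * θ b / θ (θ b) * r)
  tE : ∀ a b : Kˣ, θ (a : K) = a → ∀ w, θ w = w →
    T a b * E w * (T a b)⁻¹ = E ((b : K) * θ b * θ (θ b) / a * w)
  tF : ∀ a b : Kˣ, θ (a : K) = a → ∀ w, θ w = w → T a b * F w * (T a b)⁻¹ = F ((a : K) * w)
  flip : ∃ n : G, ∀ w, θ w = w → ∃ w', θ w' = w' ∧ n * A w * n⁻¹ = E w'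
  inj : ∀ c d e f, θ e = e → θ f = f → C c * D d * E e * F f = 1 → c = 0 ∧ d = 0 ∧ e = 0 ∧ f = 0

/-- the trace is onto the fixed field -/
theorem exists_tr_of {K : Type*} [Field K] {θ : K ≃+* K} (h3 : ∀ t, θ (θ (θ t)) = t) (nonfix : ∃ x, θ x ≠ x)
    {w : K} (hw : θ w = w) : ∃ y, tr θ y = w := by
  classical
  let T : K →+ K :=
    { toFun := tr θ
      map_zero' := by simp [tr]
      map_add' := fun x y => by simp [tr]; ring }
  suffices h : ∃ y, tr θ y ≠ 0 by
    obtain ⟨y, hy⟩ := h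
    refine ⟨w / tr θ y * y, ?_⟩
    have hf : θ (w / tr θ y) = w / tr θ y := by rw [map_div₀, hw, show θ (tr θ y) = tr θ y by simp only [tr, map_add, h3]; ring]
    conv_rhs => rw [← div_mul_cancel₀ w hy]
    obtain ⟨k, hk⟩ : ∃ k, w / tr θ y = k := ⟨_, rfl⟩
    rw [hk] at hf ⊢
    simp only [tr, map_mul, hf]; ring
  by_contra hall
  push Not at hall
  -- the three automorphisms are independent
  obtain ⟨x, hx⟩ := nonfix
  have e1 : ∀ y, y * (x - θ (θ x)) + θ y * (θ x - θ (θ x)) = 0 := fun y => by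
    have a := hall (x * y)
    have b := hall y
    simp only [tr, map_mul] at a b
    linear_combination a - θ (θ x) * b
  have h1 := e1 1
  have h2 := e1 x
  rw [map_one] at h1
  have hprod : (x - θ x) * (x - θ (θ x)) = 0 := by linear_combination h2 - θ x * h1
  rcases mul_eq_zero.1 hprod with h | h
  · exact hx (sub_eq_zero.1 h).symm
  · exact hx (by
      have := congrArg θ (sub_eq_zero.1 h)
      rw [h3] at this
      exact this)

section Calc

variable {P : Type*} [Group P]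

theorem bracket_right {a b c : P} (h : Commute b ⁅a, c⁆) : ⁅a, b * c⁆ = ⁅a, b⁆ * ⁅a, c⁆ := by
  calc ⁅a, b * c⁆ = ⁅a, b⁆ * (b * ⁅a, c⁆ * b⁻¹) := by simp only [commutatorElement_def]; group
    _ = _ := by rw [h.eq, mul_inv_cancel_right]

theorem bracket_left {a b c : P} (h : Commute a ⁅b, c⁆) : ⁅a * b, c⁆ = ⁅b, c⁆ * ⁅a, c⁆ := by
  calc ⁅a * b, c⁆ = a * ⁅b, c⁆ * a⁻¹ * ⁅a, c⁆ := by simp only [commutatorElement_def]; group
    _ = _ := by rw [h.eq, mul_inv_cancel_right]

/-- an element of the image of a map which is fixed by a nontrivial scaling is trivial -/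
theorem eq_one_of_scale {K : Type*} [Field K] {f : K → P} (h : ∀ x y, f (x + y) = f x * f y) {l : K}
    (hl : l ≠ 1) (hs : ∀ x, f (l * x) = f x) (x : K) : f x = 1 := by
  have h1 : l - 1 ≠ 0 := sub_ne_zero.2 hl
  have e := h ((l - 1) * (x / (l - 1))) (x / (l - 1))
  rw [show (l - 1) * (x / (l - 1)) + x / (l - 1) = l * (x / (l - 1)) by ring, hs,
    mul_div_cancel₀ _ h1] at e
  exact right_eq_mul.1 e

end Calc

section Main

variable {G : Type*} [Group G] {K : Type*} [Field K] [Fintype K] {θ : K ≃+* K} (X : Six G K θ)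
  {P : Type*} [Group P] {p : P →* G} (hp : Function.Surjective p) (hc : p.ker ≤ Subgroup.center P)

include X

theorem fix_tr (y : K) : θ (tr θ y) = tr θ y := by
  simp only [tr, map_add, X.h3]; ring

theorem eight : 4 < Fintype.card K := by
  classical
  obtain ⟨x, hx⟩ := X.nonfix
  have h0 : x ≠ 0 := fun e => hx (by rw [e, map_zero])
  have h1 : x ≠ 1 := fun e => hx (by rw [e, map_one])
  have a : θ x ≠ 0 ∧ θ x ≠ 1 := ⟨(map_ne_zero_iff θ θ.injective).2 h0,
    (map_eq_one_iff θ θ.injective).not.2 h1⟩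
  have b : θ (θ x) ≠ 0 ∧ θ (θ x) ≠ 1 := ⟨(map_ne_zero_iff θ θ.injective).2 a.1,
    (map_eq_one_iff θ θ.injective).not.2 a.2⟩
  have c : θ (θ x) ≠ θ x := fun e => hx (θ.injective e)
  have d : θ (θ x) ≠ x := fun e => hx (by
    have := congrArg θ e; rw [X.h3] at this; exact this.symm)
  have : ({0, 1, x, θ x, θ (θ x)} : Finset K).card = 5 := by
    rw [Finset.card_insert_of_notMem, Finset.card_insert_of_notMem, Finset.card_insert_of_notMem,
      Finset.card_pair c.symm] <;>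
      simp [Ne.symm h0, Ne.symm h1, Ne.symm a.1, Ne.symm a.2, Ne.symm b.1, Ne.symm b.2, Ne.symm hx,
        Ne.symm d, zero_ne_one]
  have h := Finset.card_le_univ ({0, 1, x, θ x, θ (θ x)} : Finset K)
  omega

/-- a unit of norm one whose square is not one -/
theorem exists_v : ∃ v : Kˣ, (v : K) * θ v * θ (θ v) = 1 ∧ (v : K) ^ 2 ≠ 1 := by
  obtain ⟨x, hx⟩ := X.nonfix
  have h0 : x ≠ 0 := fun e => hx (by rw [e, map_zero])
  have hθ : θ x ≠ 0 := (map_ne_zero_iff θ θ.injective).2 h0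
  have hθθ : θ (θ x) ≠ 0 := (map_ne_zero_iff θ θ.injective).2 hθ
  refine ⟨Units.mk0 (θ x / x) (div_ne_zero hθ h0), ?_, fun e => hx ?_⟩
  · simp only [Units.val_mk0, map_div₀, X.h3]
    field_simp
  · rw [Units.val_mk0, div_pow, div_eq_one_iff_eq (pow_ne_zero 2 h0)] at e
    rcases sq_eq_sq_iff_eq_or_eq_neg.1 e with h | h
    · exact h
    · have := X.h3 x
      rw [h, map_neg, h, neg_neg, h] at this
      rw [h, this]

/-- the exponent of the short roots is a bijection -/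
theorem exists_root (l : Kˣ) : ∃ b : Kˣ, (b : K) / (θ b * θ (θ b)) = l := by
  let u : Kˣ →* Kˣ := Units.map θ.toMonoidHom
  have hu3 : ∀ b, u (u (u b)) = b := fun b => Units.ext (X.h3 b)
  let f : Kˣ →* Kˣ := MonoidHom.id _ / (u * u.comp u)
  have hf : Function.Injective f := by
    refine (injective_iff_map_eq_one f).2 fun b hb => ?_
    have e : b = u b * u (u b) := div_eq_one.1 hb
    have e1 : u b = u (u b) * b := by
      conv_lhs => rw [e]
      rw [map_mul, hu3]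
    have e2 : u b * u b = b * b := by
      calc u b * u b = u b * (u (u b) * b) := by rw [← e1]
        _ = b * b := by rw [← mul_assoc, ← e]
    have e3 : θ (b : K) = b := by
      have e4 : θ (b : K) * θ b = (b : K) * b := congrArg Units.val e2
      rcases mul_self_eq_mul_self_iff.1 e4 with h | h
      · exact h
      · have h9 := X.h3 (b : K)
        rw [h, map_neg, h, neg_neg, h] at h9
        rw [h, h9]
    have e5 : u b = b := Units.ext e3
    rw [e5, e5] at e
    exact (mul_eq_left.1 e.symm)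
  obtain ⟨b, hb⟩ := Finite.surjective_of_injective hf l
  refine ⟨b, ?_⟩
  rw [← hb]
  simp [f, u]

theorem N_fix (b : Kˣ) :
    θ ((b * Units.map θ.toMonoidHom b * Units.map θ.toMonoidHom (Units.map θ.toMonoidHom b) : Kˣ) : K) =
      (b * Units.map θ.toMonoidHom b * Units.map θ.toMonoidHom (Units.map θ.toMonoidHom b) : Kˣ) := by
  show θ ((b : K) * θ b * θ (θ b)) = (b : K) * θ b * θ (θ b)
  rw [map_mul, map_mul, X.h3]; ring

/-- scalings with `λ θ(μ) = 1` on the pairs `(C, D)` and `(B, D)` -/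
theorem scal (l : K) (hl : l ≠ 0) : ∃ m : K, θ m * l = 1 ∧
    (∃ a b : Kˣ, θ (a : K) = a ∧ (a : K) = 1 ∧ (∀ r, X.T a b * X.C r * (X.T a b)⁻¹ = X.C (l * r)) ∧
      ∀ r, X.T a b * X.D r * (X.T a b)⁻¹ = X.D (m * r)) ∧
    ∃ a b : Kˣ, θ (a : K) = a ∧ (b : K) * θ b * θ (θ b) / a = 1 ∧
      (∀ r, X.T a b * X.B r * (X.T a b)⁻¹ = X.B (l * r)) ∧
      ∀ r, X.T a b * X.D r * (X.T a b)⁻¹ = X.D (m * r) := by
  obtain ⟨b, hb⟩ := exists_root X (Units.mk0 l hl)
  rw [Units.val_mk0] at hb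
  have h0 : (b : K) ≠ 0 := b.ne_zero
  have h1 : θ (b : K) ≠ 0 := (map_ne_zero_iff θ θ.injective).2 h0
  have h2 : θ (θ (b : K)) ≠ 0 := (map_ne_zero_iff θ θ.injective).2 h1
  refine ⟨(b : K) * θ b / θ (θ b), ?_, ⟨1, b, map_one θ, rfl, fun r => ?_, X.tD 1 b (map_one θ)⟩,
    ⟨b * Units.map θ.toMonoidHom b * Units.map θ.toMonoidHom (Units.map θ.toMonoidHom b), b, N_fix X b, ?_,
      fun r => ?_, fun r => X.tD _ b (N_fix X b) r⟩⟩
  · rw [map_div₀, map_mul, X.h3, ← hb]
    field_simp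
  · rw [X.tC 1 b (map_one θ), Units.val_one, one_mul, hb]
  · simp
  · rw [X.tB _ b (N_fix X b), ← hb]
    congr 1
    simp
    field_simp
    exact Or.inl trivial

include hp hc

theorem char_prime : (ringChar K).Prime := CharP.char_is_prime K _

theorem pow_char {f : K → G} (hf : ∀ x y, f (x + y) = f x * f y) (x : K) : f x ^ ringChar K = 1 := by
  have h0 : f 0 = 1 := right_eq_mul.1 (show f 0 = f 0 * f 0 by rw [← hf, add_zero])
  have h : ∀ n : ℕ, f x ^ n = f ((n : K) * x) := fun n => by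
    induction n with
    | zero => simp [h0]
    | succ n ih => rw [pow_succ, ih, ← hf]; push_cast; ring_nf
  rw [h, ringChar.Nat.cast_ringChar, zero_mul, h0]

/-- torus elements and root elements commuting in the image commute -/
theorem torus_commute {f : K → G} (hf : ∀ x y, f (x + y) = f x * f y) {H g : P} (a b : Kˣ) (x : K)
    (hH : p H = X.T a b) (hg : p g = f x) (h : Commute (p H) (p g)) : Commute H g := by
  rw [← commutatorElement_eq_one_iff_commute]
  have hz := SLUniv.comm_central hc h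
  obtain ⟨m, hm, hm'⟩ := X.T_ord a b
  have hpow : ∀ {u v : P}, ⁅u, v⁆ ∈ Subgroup.center P → ∀ n : ℕ, ⁅u, v ^ n⁆ = ⁅u, v⁆ ^ n := by
    intro u v huv n
    induction n with
    | zero => simp
    | succ n ih =>
      rw [pow_succ, bracket_right (Subgroup.mem_center_iff.1 huv _), ih, pow_succ]
  have h1 : ⁅H, g⁆ ^ ringChar K = 1 := by
    rw [← hpow hz, commutatorElement_eq_one_iff_commute]
    exact Subgroup.mem_center_iff.1 (hc (by rw [MonoidHom.mem_ker, map_pow, hg, pow_char X hp hc hf])) H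
  have h2 : ⁅H, g⁆ ^ m = 1 := by
    have hz' : ⁅g, H⁆ ∈ Subgroup.center P := SLUniv.comm_central hc h.symm
    rw [← commutatorElement_inv g H, inv_pow, inv_eq_one, ← hpow hz', commutatorElement_eq_one_iff_commute]
    exact Subgroup.mem_center_iff.1 (hc (by rw [MonoidHom.mem_ker, map_pow, hH, hm'])) g
  have h3 := (pow_gcd_eq_one (a := ⁅H, g⁆)).2 ⟨h1, h2⟩
  rwa [((Nat.Prime.coprime_iff_not_dvd (char_prime X hp hc)).2 hm).gcd_eq_one, pow_one] at h3

variable {L : G → P} (hL : ∀ g, p (L g) = g)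
include hL

theorem br_congr {x y : P} {g h : G} (hx : p x = g) (hy : p y = h) : ⁅x, y⁆ = ⁅L g, L h⁆ :=
  SLUniv.comm_congr hc (by rw [hx, hL]) (by rw [hy, hL])

theorem br_conj (H : P) {g g' h h' : G} (hg : p H * g * (p H)⁻¹ = g') (hh : p H * h * (p H)⁻¹ = h') :
    H * ⁅L g, L h⁆ * H⁻¹ = ⁅L g', L h'⁆ := by
  rw [conjugate_commutatorElement]
  exact br_congr X hp hc hL (by simp [hL, hg]) (by simp [hL, hh])

omit hL in
theorem fixed_of_central (H : P) {z : P} (hz : z ∈ Subgroup.center P) : H * z * H⁻¹ = z := by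
  rw [Subgroup.mem_center_iff.1 hz H, mul_inv_cancel_right]

/-- commuting pairs pair biadditively -/
theorem br_addR {f : K → G} (hf : ∀ x y, f (x + y) = f x * f y) {g : G} (h : ∀ y, Commute g (f y))
    (x y : K) : ⁅L g, L (f (x + y))⁆ = ⁅L g, L (f x)⁆ * ⁅L g, L (f y)⁆ := by
  rw [← bracket_right (Subgroup.mem_center_iff.1 (SLUniv.comm_central hc (by rw [hL, hL]; exact h y)) _)]
  exact (br_congr X hp hc hL (hL g) (by rw [map_mul, hL, hL, hf])).symm

theorem br_addL {f : K → G} (hf : ∀ x y, f (x + y) = f x * f y) {g : G} (h : ∀ y, Commute (f y) g)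
    (x y : K) : ⁅L (f (x + y)), L g⁆ = ⁅L (f x), L g⁆ * ⁅L (f y), L g⁆ := by
  have hz := SLUniv.comm_central hc (a := L (f y)) (b := L g) (by rw [hL, hL]; exact h y)
  rw [Subgroup.mem_center_iff.1 hz ⁅L (f x), L g⁆, ← bracket_left (Subgroup.mem_center_iff.1 hz _)]
  exact (br_congr X hp hc hL (by rw [map_mul, hL, hL, hf]) (hL g)).symm

theorem abelian_of_scal {f : K → G} (hf : ∀ x y, f (x + y) = f x * f y)
    (hs : ∀ l : K, l ≠ 0 → ∃ t, ∀ r, t * f r * t⁻¹ = f (l * r)) (x y : K) :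
    Commute (L (f x)) (L (f y)) := by
  have hcom : ∀ x y, Commute (f x) (f y) := fun x y => by
    show f x * f y = f y * f x
    rw [← hf, ← hf, add_comm]
  rw [← commutatorElement_eq_one_iff_commute]
  refine pairing_eq_one (f := fun x y => ⁅L (f x), L (f y)⁆) (eight X)
    (fun x y => SLUniv.comm_central hc (by rw [hL, hL]; exact hcom x y))
    (fun a a' b => br_addL X hp hc hL hf (fun z => hcom z b) a a')
    (fun a b b' => br_addR X hp hc hL hf (fun z => hcom a z) b b') (fun l hl a b => ?_) x y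
  obtain ⟨t, ht⟩ := hs l hl
  rw [← br_conj X hp hc hL (L t) (g := f a) (h := f b) (by rw [hL, ht]) (by rw [hL, ht]),
    fixed_of_central X hp hc _ (SLUniv.comm_central hc (by rw [hL, hL]; exact hcom a b))]

/-- a short root against a long one -/
theorem mixed {f : K → G} (hf : ∀ x y, f (x + y) = f x * f y) {g : G} (h : ∀ y, Commute (f y) g) {l : K}
    (hl : l ≠ 1) {t : G} (ht : ∀ r, t * f r * t⁻¹ = f (l * r)) (htg : t * g * t⁻¹ = g) (x : K) :
    Commute (L (f x)) (L g) := by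
  rw [← commutatorElement_eq_one_iff_commute]
  refine eq_one_of_scale (f := fun x => ⁅L (f x), L g⁆) (br_addL X hp hc hL hf h) hl (fun r => ?_) x
  rw [← br_conj X hp hc hL (L t) (g := f r) (h := g) (by rw [hL, ht]) (by rw [hL, htg]),
    fixed_of_central X hp hc _ (SLUniv.comm_central hc (by rw [hL, hL]; exact h r))]

theorem cBB (x y : K) : Commute (L (X.B x)) (L (X.B y)) :=
  abelian_of_scal X hp hc hL X.addB (fun l hl => by
    obtain ⟨m, -, -, a, b, -, -, hB, -⟩ := scal X l hl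
    exact ⟨_, hB⟩) x y

theorem cCC (x y : K) : Commute (L (X.C x)) (L (X.C y)) :=
  abelian_of_scal X hp hc hL X.addC (fun l hl => by
    obtain ⟨m, -, ⟨a, b, -, -, hC, -⟩, -⟩ := scal X l hl
    exact ⟨_, hC⟩) x y

theorem cDD (x y : K) : Commute (L (X.D x)) (L (X.D y)) :=
  abelian_of_scal X hp hc hL X.addD (fun l hl => by
    have hl' : θ l ≠ 0 := (map_ne_zero_iff θ θ.injective).2 hl
    obtain ⟨m, hm, ⟨a, b, -, -, -, hD⟩, -⟩ := scal X (θ l)⁻¹ (inv_ne_zero hl')
    have e : m = l := θ.injective (by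
      rwa [← div_eq_mul_inv, div_eq_one_iff_eq hl'] at hm)
    exact ⟨_, e ▸ hD⟩) x y

omit hp hc hL in
/-- a torus element scaling the short roots and fixing the long ones -/
theorem exists_tv : ∃ (a b : Kˣ) (l m : K), θ (a : K) = a ∧ l ≠ 1 ∧ m ≠ 1 ∧
    (∀ r, X.T a b * X.B r * (X.T a b)⁻¹ = X.B (l * r)) ∧
    (∀ r, X.T a b * X.C r * (X.T a b)⁻¹ = X.C (l * r)) ∧
    (∀ r, X.T a b * X.D r * (X.T a b)⁻¹ = X.D (m * r)) ∧
    (∀ w, θ w = w → X.T a b * X.A w * (X.T a b)⁻¹ = X.A w) ∧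
    (∀ w, θ w = w → X.T a b * X.E w * (X.T a b)⁻¹ = X.E w) ∧
    ∀ w, θ w = w → X.T a b * X.F w * (X.T a b)⁻¹ = X.F w := by
  obtain ⟨v, hv, hv2⟩ := exists_v X
  have h0 : (v : K) ≠ 0 := v.ne_zero
  have h1 : θ (v : K) ≠ 0 := (map_ne_zero_iff θ θ.injective).2 h0
  have h2 : θ (θ (v : K)) ≠ 0 := (map_ne_zero_iff θ θ.injective).2 h1
  have e : θ (v : K) * θ (θ (v : K)) = (v : K)⁻¹ := eq_inv_of_mul_eq_one_right (by rw [← mul_assoc, hv])
  refine ⟨1, v, (v : K) ^ 2, (v : K) * θ v / θ (θ v), map_one θ, hv2, fun em => hv2 ?_, fun r => ?_,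
    fun r => ?_, fun r => X.tD 1 v (map_one θ) r, fun w hw => ?_, fun w hw => ?_, fun w hw => ?_⟩
  · have em' : (v : K) * θ v = θ (θ v) := (div_eq_one_iff_eq h2).1 em
    have h3 : θ (θ (v : K)) ^ 2 = 1 := by rw [pow_two]; nth_rewrite 1 [← em']; exact hv
    have h4 := congrArg θ h3
    rwa [map_pow, map_one, X.h3] at h4
  · rw [X.tB 1 v (map_one θ), Units.val_one, div_one]
  · rw [X.tC 1 v (map_one θ), Units.val_one, one_mul, e, div_inv_eq_mul, ← pow_two]
  · rw [X.tA 1 v (map_one θ) w hw, Units.val_one, one_pow, hv, div_one, one_mul]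
  · rw [X.tE 1 v (map_one θ) w hw, Units.val_one, hv, div_one, one_mul]
  · rw [X.tF 1 v (map_one θ) w hw, Units.val_one, one_mul]

/-- short roots commute with long roots when their images do -/
theorem short_long {w : K} (hw : θ w = w) (x : K) :
    Commute (L (X.B x)) (L (X.E w)) ∧ Commute (L (X.B x)) (L (X.F w)) ∧
    Commute (L (X.C x)) (L (X.A w)) ∧ Commute (L (X.C x)) (L (X.E w)) ∧ Commute (L (X.C x)) (L (X.F w)) ∧
    Commute (L (X.D x)) (L (X.A w)) ∧ Commute (L (X.D x)) (L (X.E w)) ∧ Commute (L (X.D x)) (L (X.F w)) := by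
  obtain ⟨a, b, l, m, -, hl, hm, hB, hC, hD, hA, hE, hF⟩ := exists_tv X
  exact ⟨mixed X hp hc hL X.addB (fun y => X.cBE y w hw) hl hB (hE w hw) x,
    mixed X hp hc hL X.addB (fun y => X.cBF y w hw) hl hB (hF w hw) x,
    mixed X hp hc hL X.addC (fun y => (X.cAC w y hw).symm) hl hC (hA w hw) x,
    mixed X hp hc hL X.addC (fun y => X.cCE y w hw) hl hC (hE w hw) x,
    mixed X hp hc hL X.addC (fun y => X.cCF y w hw) hl hC (hF w hw) x,
    mixed X hp hc hL X.addD (fun y => (X.cAD w y hw).symm) hm hD (hA w hw) x,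
    mixed X hp hc hL X.addD (fun y => X.cDE y w hw) hm hD (hE w hw) x,
    mixed X hp hc hL X.addD (fun y => X.cDF y w hw) hm hD (hF w hw) x⟩

omit hp hc hL in
theorem exists_tr {w : K} (hw : θ w = w) : ∃ y, tr θ y = w :=
  exists_tr_of X.h3 X.nonfix hw

/-- an element commuting in the image with `B` and `D` commutes with the lifts of `E` -/
theorem commute_E {g : G} (hB : ∀ r, Commute g (X.B r)) (hD : ∀ r, Commute g (X.D r)) {w : K}
    (hw : θ w = w) : Commute (L g) (L (X.E w)) := by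
  obtain ⟨y, hy⟩ := exists_tr X hw
  refine SLUniv.commute_congr hc (a' := L g) (b' := ⁅L (X.B 1), L (X.D (θ.symm y))⁆) rfl ?_ ?_
  · rw [hL, map_commutatorElement, hL, hL, X.rBD, θ.apply_symm_apply, one_mul, hy]
  · exact SLUniv.commute_comm hc (by rw [hL, hL]; exact hB _) (by rw [hL, hL]; exact hD _)

/-- an element commuting in the image with `C` and `D` commutes with the lifts of `F` -/
theorem commute_F {g : G} (hC : ∀ r, Commute g (X.C r)) (hD : ∀ r, Commute g (X.D r)) {w : K}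
    (hw : θ w = w) : Commute (L g) (L (X.F w)) := by
  obtain ⟨y, hy⟩ := exists_tr X hw
  refine SLUniv.commute_congr hc (a' := L g) (b' := ⁅L (X.C 1), L (X.D (θ.symm y))⁆) rfl ?_ ?_
  · rw [hL, map_commutatorElement, hL, hL, X.rCD, θ.apply_symm_apply, one_mul, hy]
  · exact SLUniv.commute_comm hc (by rw [hL, hL]; exact hC _) (by rw [hL, hL]; exact hD _)

theorem long_long {w w' : K} (hw : θ w = w) (hw' : θ w' = w') :
    Commute (L (X.A w)) (L (X.F w')) ∧ Commute (L (X.E w)) (L (X.E w')) ∧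
    Commute (L (X.E w)) (L (X.F w')) ∧ Commute (L (X.F w)) (L (X.F w')) ∧
    Commute (L (X.A w)) (L (X.A w')) := by
  have hEE : ∀ {u u'}, θ u = u → θ u' = u' → Commute (L (X.E u)) (L (X.E u')) := fun hu hu' =>
    commute_E X hp hc hL (fun r => (X.cBE r _ hu).symm) (fun r => (X.cDE r _ hu).symm) hu'
  refine ⟨commute_F X hp hc hL (fun r => X.cAC w r hw) (fun r => X.cAD w r hw) hw', hEE hw hw',
    commute_F X hp hc hL (fun r => (X.cCE r w hw).symm) (fun r => (X.cDE r w hw).symm) hw',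
    commute_F X hp hc hL (fun r => (X.cCF r w hw).symm) (fun r => (X.cDF r w hw).symm) hw', ?_⟩
  obtain ⟨n, hn⟩ := X.flip
  obtain ⟨u, hu, eu⟩ := hn w hw
  obtain ⟨u', hu', eu'⟩ := hn w' hw'
  have h : Commute (L n * L (X.A w) * (L n)⁻¹) (L n * L (X.A w') * (L n)⁻¹) :=
    SLUniv.commute_congr hc (by simp [hL, eu]) (by simp [hL, eu']) (hEE hu hu')
  exact (Commute.conj_iff (L n)).1 h

/-- lifts of long root elements commute with lifts of `B`, `C`, `D` -/
theorem E_comm {w : K} (hw : θ w = w) {g : P} (h : p g ∈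
    Subgroup.closure ((Set.range X.B ∪ Set.range X.C ∪ Set.range X.D) ∪
      (X.E '' {w | θ w = w} ∪ X.F '' {w | θ w = w}))) :
    Commute g (L (X.E w)) ∧ Commute g (L (X.F w)) := by
  suffices hs : ∀ g ∈ Subgroup.closure ((Set.range X.B ∪ Set.range X.C ∪ Set.range X.D) ∪
      (X.E '' {w | θ w = w} ∪ X.F '' {w | θ w = w})),
      Commute (L g) (L (X.E w)) ∧ Commute (L g) (L (X.F w)) from
    ⟨SLUniv.commute_congr hc (hL _).symm rfl (hs _ h).1, SLUniv.commute_congr hc (hL _).symm rfl (hs _ h).2⟩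
  intro g hg
  induction hg using Subgroup.closure_induction with
  | mem y hy =>
    rcases hy with ((⟨r, rfl⟩ | ⟨r, rfl⟩) | ⟨r, rfl⟩) | (⟨r, hr, rfl⟩ | ⟨r, hr, rfl⟩)
    · exact ⟨(short_long X hp hc hL hw r).1, (short_long X hp hc hL hw r).2.1⟩
    · exact ⟨(short_long X hp hc hL hw r).2.2.2.1, (short_long X hp hc hL hw r).2.2.2.2.1⟩
    · exact ⟨(short_long X hp hc hL hw r).2.2.2.2.2.2.1, (short_long X hp hc hL hw r).2.2.2.2.2.2.2⟩
    · exact ⟨(long_long X hp hc hL hr hw).2.1, (long_long X hp hc hL hr hw).2.2.1⟩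
    · exact ⟨(long_long X hp hc hL hw hr).2.2.1.symm, (long_long X hp hc hL hr hw).2.2.2.1⟩
  | one =>
    have h1 : ∀ y, Commute (L 1) y := fun y =>
      (Subgroup.mem_center_iff.1 (hc (hL 1)) y).symm
    exact ⟨h1 _, h1 _⟩
  | mul a b _ _ ha hb =>
    have e : p (L (a * b)) = p (L a * L b) := by rw [hL, map_mul, hL, hL]
    exact ⟨SLUniv.commute_congr hc e rfl (ha.1.mul_left hb.1), SLUniv.commute_congr hc e rfl (ha.2.mul_left hb.2)⟩
  | inv a _ ha =>
    have e : p (L a⁻¹) = p (L a)⁻¹ := by rw [hL, map_inv, hL]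
    exact ⟨SLUniv.commute_congr hc e rfl ha.1.inv_left, SLUniv.commute_congr hc e rfl ha.2.inv_left⟩

omit hp hc hL in
theorem map_zero_of_add {f : K → G} (hf : ∀ x y, f (x + y) = f x * f y) : f 0 = 1 :=
  right_eq_mul.1 (show f 0 = f 0 * f 0 by rw [← hf, add_zero])

omit hp hc hL in
theorem gE_mem (w : K) (hw : θ w = w) : X.E w ∈
    Subgroup.closure ((Set.range X.B ∪ Set.range X.C ∪ Set.range X.D) ∪
      (X.E '' {w | θ w = w} ∪ X.F '' {w | θ w = w})) :=
  Subgroup.subset_closure (Or.inr (Or.inl ⟨w, hw, rfl⟩))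

/-- `[B(r), D(d)]` only depends on `r θ(d)` -/
theorem brBD (r d : K) :
    ⁅L (X.B r), L (X.D d)⁆ = ⁅L (X.B 1), L (X.D (θ.symm (r * θ d)))⁆ := by
  by_cases hr : r = 0
  · subst hr
    rw [zero_mul, map_zero, map_zero_of_add X X.addB, map_zero_of_add X X.addD]
    have h1 : ∀ y : P, ⁅L 1, y⁆ = 1 := fun y => commutatorElement_eq_one_iff_commute.2
      (Subgroup.mem_center_iff.1 (hc (hL 1)) y).symm
    rw [h1, ← commutatorElement_inv, h1, inv_one]
  obtain ⟨m, hm, -, a, b, ha, hab, hB, hD⟩ := scal X r⁻¹ (inv_ne_zero hr)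
  have e : m * d = θ.symm (r * θ d) := by
    refine θ.injective ?_
    rw [θ.apply_symm_apply, map_mul, show θ m = r by
      rwa [← div_eq_mul_inv, div_eq_one_iff_eq hr] at hm]
  rw [← e, ← br_conj X hp hc hL (L (X.T a b)) (g := X.B r) (h := X.D d) (g' := X.B 1) (h' := X.D (m * d))
    (by rw [hL, hB, inv_mul_cancel₀ hr]) (by rw [hL, hD])]
  have hw := fix_tr X (r * θ d)
  have hpg : p ⁅L (X.B r), L (X.D d)⁆ = X.E (tr θ (r * θ d)) := by
    rw [map_commutatorElement, hL, hL, X.rBD]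
  have hcm : Commute (L (X.T a b)) ⁅L (X.B r), L (X.D d)⁆ := by
    refine torus_commute X hp hc X.addE a b _ (hL _) hpg ?_
    rw [hL, hpg]
    refine mul_inv_eq_iff_eq_mul.1 ?_
    rw [X.tE a b ha _ hw, hab, one_mul]
  rw [hcm.eq, mul_inv_cancel_right]

/-- `[C(c), D(d)]` only depends on `c θ(d)` -/
theorem brCD (r d : K) :
    ⁅L (X.C r), L (X.D d)⁆ = ⁅L (X.C 1), L (X.D (θ.symm (r * θ d)))⁆ := by
  by_cases hr : r = 0
  · subst hr
    rw [zero_mul, map_zero, map_zero_of_add X X.addC, map_zero_of_add X X.addD]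
    have h1 : ∀ y : P, ⁅L 1, y⁆ = 1 := fun y => commutatorElement_eq_one_iff_commute.2
      (Subgroup.mem_center_iff.1 (hc (hL 1)) y).symm
    rw [h1, ← commutatorElement_inv, h1, inv_one]
  obtain ⟨m, hm, ⟨a, b, ha, hab, hC, hD⟩, -⟩ := scal X r⁻¹ (inv_ne_zero hr)
  have e : m * d = θ.symm (r * θ d) := by
    refine θ.injective ?_
    rw [θ.apply_symm_apply, map_mul, show θ m = r by
      rwa [← div_eq_mul_inv, div_eq_one_iff_eq hr] at hm]
  rw [← e, ← br_conj X hp hc hL (L (X.T a b)) (g := X.C r) (h := X.D d) (g' := X.C 1) (h' := X.D (m * d))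
    (by rw [hL, hC, inv_mul_cancel₀ hr]) (by rw [hL, hD])]
  have hw := fix_tr X (r * θ d)
  have hpg : p ⁅L (X.C r), L (X.D d)⁆ = X.F (tr θ (r * θ d)) := by
    rw [map_commutatorElement, hL, hL, X.rCD]
  have hcm : Commute (L (X.T a b)) ⁅L (X.C r), L (X.D d)⁆ := by
    refine torus_commute X hp hc X.addF a b _ (hL _) hpg ?_
    rw [hL, hpg]
    refine mul_inv_eq_iff_eq_mul.1 ?_
    rw [X.tF a b ha _ hw, hab, one_mul]
  rw [hcm.eq, mul_inv_cancel_right]

omit hp hc hL in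
/-- the kernel of the trace -/
theorem exists_sub_of_tr {y : K} (h : tr θ y = 0) : ∃ z, y = z - θ z := by
  obtain ⟨t, ht⟩ := exists_tr X (w := (1 : K)) (map_one θ)
  refine ⟨y * θ t + (y + θ y) * θ (θ t), ?_⟩
  simp only [tr] at h ht
  simp only [map_add, map_mul, X.h3]
  linear_combination -y * ht + t * h

omit hp hc hL in
/-- a trace-form relation gives invariance -/
theorem invariant_of_rel {f : K → P} (hf : ∀ x y, f (x + y) = f x * f y)
    (h : ∀ r r' s, f (r * θ (dd θ r' s)) = f (r' * θ (dd θ r s))) (y : K) : f (θ y) = f y := by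
  have h0 : f 0 = 1 := right_eq_mul.1 (show f 0 = f 0 * f 0 by rw [← hf, add_zero])
  obtain ⟨x, hx⟩ := X.nonfix
  have hne : x - θ (θ x) ≠ 0 := fun e => hx (by
    have := congrArg θ (sub_eq_zero.1 e); rw [X.h3] at this; exact this)
  set s := θ.symm (y / (x - θ (θ x)))
  have es : θ s * (x - θ (θ x)) = y := by rw [θ.apply_symm_apply, div_mul_cancel₀ _ hne]
  have e := h x 1 s
  have e1 : x * θ (dd θ 1 s) = 1 * θ (dd θ x s) + (y - θ y) := by
    rw [← es]
    simp only [dd, map_add, map_mul, map_one, map_sub, X.h3]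
    ring
  rw [e1, hf] at e
  have e2 : f (y - θ y) = 1 := mul_eq_left.1 e
  calc f (θ y) = f (y - θ y) * f (θ y) := by rw [e2, one_mul]
    _ = f y := by rw [← hf, sub_add_cancel]

theorem gE_add (x y : K) :
    ⁅L (X.B 1), L (X.D (θ.symm (x + y)))⁆ =
      ⁅L (X.B 1), L (X.D (θ.symm x))⁆ * ⁅L (X.B 1), L (X.D (θ.symm y))⁆ := by
  set e := ⁅L (X.B 1), L (X.D (θ.symm y))⁆
  have hw := fix_tr X (1 * θ (θ.symm y))
  have hpe : p e = p (L (X.E (tr θ (1 * θ (θ.symm y))))) := by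
    rw [map_commutatorElement, hL, hL, hL, X.rBD]
  have hcm : Commute (L (X.D (θ.symm x))) e :=
    SLUniv.commute_congr hc rfl hpe (short_long X hp hc hL hw (θ.symm x)).2.2.2.2.2.2.1
  rw [← bracket_right hcm]
  exact (br_congr X hp hc hL (hL _) (by rw [map_mul, hL, hL, ← X.addD, map_add])).symm

theorem gF_add (x y : K) :
    ⁅L (X.C 1), L (X.D (θ.symm (x + y)))⁆ =
      ⁅L (X.C 1), L (X.D (θ.symm x))⁆ * ⁅L (X.C 1), L (X.D (θ.symm y))⁆ := by
  set e := ⁅L (X.C 1), L (X.D (θ.symm y))⁆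
  have hw := fix_tr X (1 * θ (θ.symm y))
  have hpe : p e = p (L (X.F (tr θ (1 * θ (θ.symm y))))) := by
    rw [map_commutatorElement, hL, hL, hL, X.rCD]
  have hcm : Commute (L (X.D (θ.symm x))) e :=
    SLUniv.commute_congr hc rfl hpe (short_long X hp hc hL hw (θ.symm x)).2.2.2.2.2.2.2
  rw [← bracket_right hcm]
  exact (br_congr X hp hc hL (hL _) (by rw [map_mul, hL, hL, ← X.addD, map_add])).symm

end Main

end CfsgLib.Lie.Mult.TD4Six
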